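import Cfsg.Agent.M23.Block
import Cfsg.Agent.Characters.GaloisIrr
import Cfsg.Agent.Blocks.GaloisConj

/-!
# The exceptional characters of the principal block are rational on `p`-regular elements
-/

set_option autoImplicit false

set_option linter.unusedSectionVars false
set_option linter.unusedTactic false
set_option linter.unreachableTactic false

namespace Cfsg.Agent.M23.BlockInt

open Cfsg Subgroup Cfsg.Agent.Characters.Core
open Cfsg.Agent.Blocks.Basic (irr_one_eq_charDegree)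
open Cfsg.Agent.SmallSimple Cfsg.Agent.M22.NonSelfCent Cfsg.Agent.M23.Block

universe u

variable {G : Type u} [Group G] [Finite G]

/-- The Galois conjugate of an irreducible character. -/
def powIrr {m : ℕ} (hm : m.Coprime (Nat.card G)) (χ : IrrCharacter G) : IrrCharacter G :=
  ⟨fun g => (χ : G → ℂ) (g ^ m), Cfsg.Agent.Characters.GaloisIrr.isIrr_pow hm χ.2⟩

theorem powIrr_apply {m : ℕ} (hm : m.Coprime (Nat.card G)) (χ : IrrCharacter G) (g : G) :
    (powIrr hm χ : G → ℂ) g = (χ : G → ℂ) (g ^ m) := rfl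

/-- The principal block is closed under Galois conjugation. -/
theorem powIrr_mem {M : Ideal AlgInt} {m : ℕ} (hm : m.Coprime (Nat.card G)) {χ : IrrCharacter G}
    (hχ : χ ∈ principalBlock M G) : powIrr hm χ ∈ principalBlock M G := by
  intro g
  have h1 := hχ (g ^ m)
  have h2 : centralizer ({g ^ m} : Set G) = centralizer ({g} : Set G) :=
    Cfsg.Agent.Blocks.GaloisConj.centralizer_pow_eq (n := Nat.card G) pow_card_eq_one' hm
  simp only [centralChar, powIrr, one_pow] at h1 ⊢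
  rw [h2] at h1
  exact h1

variable {p : ℕ} [Fact p.Prime] {P : Sylow p G} {e t : ℕ} {M : Ideal AlgInt}
  {NE X : Finset (IrrCharacter G)} {ε : IrrCharacter G → ℤ} {d : ℤ}
  {S : IrrCharacter G → Finset (P →* ℂˣ)}

theorem dvd_NE (B : Blk p P e t M NE X ε d S) (hP : Nat.card P = p) {χ : IrrCharacter G}
    (hχ : χ ∈ NE) : (p : ℤ) ∣ charDegree (χ : G → ℂ) - ε χ := by
  have hp : p.Prime := Fact.out
  have hone : ¬ p ∣ orderOf (1 : G) := by
    rw [orderOf_one]; exact fun h => hp.one_lt.ne' (Nat.dvd_one.1 h)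
  have hv : ∀ x ∈ (P : Subgroup G), x ≠ 1 → (χ : G → ℂ) x = ε χ := by
    intro x hx hx1
    have := B.val_NE χ hχ x hx hx1 1 (one_mem _) hone
    rwa [mul_one] at this
  obtain ⟨m, hm⟩ := TheoremBCor.degree_nonexc (p := p) hP (isIrr_isCharacter χ.2) hv
  rw [Blocks.Basic.irr_one_eq_charDegree χ.2] at hm
  refine ⟨(m : ℤ) - ε χ, ?_⟩
  have : ((charDegree (χ : G → ℂ) : ℤ) : ℂ) = ((ε χ + p * ((m : ℤ) - ε χ) : ℤ) : ℂ) := by
    push_cast; exact hm
  have := Int.cast_injective this
  rw [this]; ring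

theorem dvd_X (B : Blk p P e t M NE X ε d S) (hP : Nat.card P = p) {Θ : IrrCharacter G}
    (hΘ : Θ ∈ X) : (p : ℤ) ∣ charDegree (Θ : G → ℂ) - d * e := by
  have hp : p.Prime := Fact.out
  have hone : ¬ p ∣ orderOf (1 : G) := by
    rw [orderOf_one]; exact fun h => hp.one_lt.ne' (Nat.dvd_one.1 h)
  obtain ⟨hc, h1S, hv⟩ := B.val_X Θ hΘ
  have hv' : ∀ x : P, x ≠ 1 → (Θ : G → ℂ) x = d * ∑ l ∈ S Θ, ((l x : ℂˣ) : ℂ) := by
    intro x hx1
    have := hv x hx1 1 (one_mem _) hone
    rwa [mul_one] at this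
  obtain ⟨m, hm⟩ := TheoremBCor.degree_exc (p := p) hP (isIrr_isCharacter Θ.2) h1S hv'
  rw [Blocks.Basic.irr_one_eq_charDegree Θ.2, hc] at hm
  refine ⟨m, ?_⟩
  have : ((charDegree (Θ : G → ℂ) : ℤ) : ℂ) = ((d * e + p * m : ℤ) : ℂ) := by
    push_cast; exact hm
  have := Int.cast_injective this
  rw [this]; ring

/-- The exceptional characters have integral values at the `p`-regular elements. -/
theorem exists_int (B : Blk p P e t M NE X ε d S) (hP : Nat.card P = p) (he1 : 1 < e)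
    (hep : e + 1 < p) {Θ : IrrCharacter G} (hΘ : Θ ∈ X) {g : G} (hg : ¬ p ∣ orderOf g) :
    ∃ z : ℤ, (Θ : G → ℂ) g = z := by
  refine Cfsg.Agent.Characters.GaloisBasic.exists_int_of_rat (isIrr_isCharacter Θ.2) g
    ((Cfsg.Agent.Characters.GaloisBasic.exists_rat_iff (isIrr_isCharacter Θ.2) g).2
      fun m hm => ?_)
  have h1 := powIrr_mem hm ((B.mem_iff Θ).2 (Or.inr hΘ))
  have hd : (d : ℂ) ≠ 0 := by
    rcases B.kb.hd with h | h <;> rw [h] <;> norm_num
  rcases (B.mem_iff _).1 h1 with h2 | h2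
  · exfalso
    have h3 := dvd_NE B hP h2
    have h4 := dvd_X B hP hΘ
    have h5 : charDegree (powIrr hm Θ : G → ℂ) = charDegree (Θ : G → ℂ) := by
      have h6 := irr_one_eq_charDegree (powIrr hm Θ).2
      rw [powIrr_apply, one_pow, irr_one_eq_charDegree Θ.2] at h6
      exact_mod_cast h6.symm
    rw [h5] at h3
    have h6 : (p : ℤ) ∣ ε (powIrr hm Θ) - d * e := by
      have := dvd_sub h4 h3
      rwa [show (charDegree (Θ : G → ℂ) : ℤ) - d * e - (charDegree (Θ : G → ℂ) -
        ε (powIrr hm Θ)) = ε (powIrr hm Θ) - d * e by ring] at this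
    have h7 := Int.eq_zero_of_abs_lt_dvd h6 (by
      rw [abs_lt]
      rcases B.kb.eps _ h2 with h | h <;> rcases B.kb.hd with h' | h' <;> rw [h, h'] <;>
        constructor <;> push_cast <;> omega)
    rcases B.kb.eps _ h2 with h | h <;> rcases B.kb.hd with h' | h' <;> rw [h, h'] at h7 <;>
      omega
  · have h3 := B.kb.rel _ h2 g hg
    have h4 := B.kb.rel _ hΘ g hg
    rw [h3] at h4
    exact mul_left_cancel₀ hd h4

end Cfsg.Agent.M23.BlockInt
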