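import Cfsg.Agent.M23.ElevenTen
import Cfsg.Agent.M23.BlockInt

/-!
# Sylow 11-subgroups in a simple group of order `10200960`: `e = 5`, `|K| = 144` or `12`
-/

set_option autoImplicit false
set_option linter.unusedSectionVars false

namespace Cfsg.Agent.M23.ElevenFive

open Cfsg Subgroup Cfsg.Agent.Characters.Core
open Cfsg.Agent.Blocks.Basic (irr_one_eq_charDegree)
open Cfsg.Agent.SmallSimple Cfsg.Agent.SmallSimple.PrimeLocal Cfsg.Agent.M22.NonSelfCent
open Cfsg.Agent.M23.Block Cfsg.Agent.M23.Adm Cfsg.Agent.M23.ElevenCommon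

universe u

/-! ### Arithmetic of the degrees -/

theorem arithN' : ∀ n ∈ List.range 3195, 23 ≤ n → 10200960 % n = 0 → (n % 11 = 1 ∨ n % 11 = 10) →
    (n % 23 = 0 ∨ n % 23 = 1 ∨ n % 23 = 22 ∨ n % 23 = 11 ∨ n % 23 = 12) → ¬ n % 9 = 0 →
    ¬ n % 128 = 0 → n % 23 = 0 := by
  decide +kernel

theorem arithN {n : ℕ} {s : ℤ} (hn : n < 3195) (h23 : 23 ≤ n) (hd : n ∣ 10200960)
    (h11 : n % 11 = 1 ∨ n % 11 = 10) (h : AdmAt n s) (h9 : ¬ 9 ∣ n) (h128 : ¬ 128 ∣ n) :
    s = 0 := by
  unfold AdmAt at h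
  have := arithN' n (List.mem_range.2 hn) h23 (Nat.mod_eq_zero_of_dvd hd) h11 (by omega)
    (fun h' => h9 (Nat.dvd_of_mod_eq_zero h')) (fun h' => h128 (Nat.dvd_of_mod_eq_zero h'))
  omega

theorem arithX' : ∀ n ∈ List.range 3195, 23 ≤ n → 10200960 % n = 0 → (n % 11 = 5 ∨ n % 11 = 6) →
    (n % 23 = 1 ∨ n % 23 = 22) → ¬ n % 9 = 0 → ¬ n % 128 = 0 → n = 160 := by
  decide +kernel

theorem arithX {n : ℕ} {s : ℤ} (hn : n < 3195) (h23 : 23 ≤ n) (hd : n ∣ 10200960)
    (h11 : n % 11 = 5 ∨ n % 11 = 6) (h : AdmAt n s) (hs : s = 22 ∨ s = -22) (h9 : ¬ 9 ∣ n)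
    (h128 : ¬ 128 ∣ n) : n = 160 := by
  unfold AdmAt at h
  exact arithX' n (List.mem_range.2 hn) h23 (Nat.mod_eq_zero_of_dvd hd) h11 (by omega)
    (fun h' => h9 (Nat.dvd_of_mod_eq_zero h')) (fun h' => h128 (Nat.dvd_of_mod_eq_zero h'))

theorem key12' : ∀ r ∈ List.range 13, ∀ i ∈ List.range 4, 0 < i → 12 % (r ^ i) = 0 →
    ¬ r = 1 → ¬ r = 6 → r ^ i % 5 ≠ 1 := by
  decide +kernel

theorem key12 {r i : ℕ} (hr : r < 13) (hi : i < 4) (h0 : 0 < i) (h1 : r.Prime) (h : r ^ i ∣ 12) :
    r ^ i % 5 ≠ 1 :=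
  key12' r (List.mem_range.2 hr) i (List.mem_range.2 hi) h0 (Nat.mod_eq_zero_of_dvd h) h1.ne_one
    (by rintro rfl; revert h1; norm_num)

/-! ### A group lemma -/

/-- A group of order twelve in which an element of order three commutes with no involution
contains a Klein four-group. -/
theorem twelve {K : Type u} [Group K] [Finite K] (hK : Nat.card K = 12) {k : K}
    (hk : orderOf k = 3) (hno : ∀ t : K, orderOf t = 2 → t * k ≠ k * t) :
    ∃ N : Subgroup K, Nat.card N = 4 ∧ ∀ x ∈ N, x ≠ 1 → orderOf x = 2 := by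
  classical
  have h2 : Fact (Nat.Prime 2) := ⟨by norm_num⟩
  let T : Sylow 2 K := default
  have hT : Nat.card (T : Subgroup K) = 4 := by
    have h1 := T.card_eq_multiplicity
    rw [hK] at h1
    have h3 : (12 : ℕ).factorization 2 = 2 := by
      rw [show (12 : ℕ) = 2 ^ 2 * 3 by norm_num, Nat.factorization_mul (by norm_num) (by norm_num),
        Nat.Prime.factorization_pow Nat.prime_two, Nat.Prime.factorization Nat.prime_three]
      simp
    rw [h3] at h1
    exact h1
  set N : Subgroup K := (T : Subgroup K).normalCore with hN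
  have hNn : N.Normal := Subgroup.normalCore_normal _
  have hNT : N ≤ (T : Subgroup K) := Subgroup.normalCore_le _
  have hNfin : Fintype N := Fintype.ofFinite N
  -- the index of `N` divides `6`
  have hidx : (T : Subgroup K).index = 3 := by
    have h1 := (T : Subgroup K).card_mul_index
    rw [hT, hK] at h1
    omega
  have hNidx : N.index ∣ 6 := by
    rw [hN, Subgroup.normalCore_eq_ker, Subgroup.index_ker]
    have h1 : Nat.card (MulAction.toPermHom K (K ⧸ (T : Subgroup K))).range ∣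
        Nat.card (Equiv.Perm (K ⧸ (T : Subgroup K))) := Subgroup.card_subgroup_dvd_card _
    have h3 : Nat.card (Equiv.Perm (K ⧸ (T : Subgroup K))) = 6 := by
      rw [Nat.card_perm, ← Subgroup.index_eq_card, hidx]
      rfl
    rwa [h3] at h1
  have hNcard : 2 ∣ Nat.card N := by
    have h1 := N.card_mul_index
    rw [hK] at h1
    obtain ⟨c, hc⟩ := hNidx
    have h3 : Nat.card N * N.index = 2 * (N.index * c) := by rw [h1, ← hc]
    refine ⟨c, ?_⟩
    have h4 : 0 < N.index := by
      rcases Nat.eq_zero_or_pos N.index with h | h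
      · rw [h, mul_zero] at h1; omega
      · exact h
    apply Nat.eq_of_mul_eq_mul_right h4
    rw [h3]; ring
  -- an involution of `N` and its conjugates
  obtain ⟨⟨t, ht⟩, hot⟩ := exists_prime_orderOf_dvd_card' 2 hNcard
  have hot' : orderOf t = 2 := by rwa [← Subgroup.orderOf_coe] at hot
  have hk3 : k ^ 3 = 1 := by rw [← hk]; exact pow_orderOf_eq_one k
  have hconj : ∀ a : K, orderOf (a * t * a⁻¹) = 2 := by
    intro a
    rw [← hot']
    exact orderOf_injective (MulAut.conj a).toMonoidHom (MulAut.conj a).injective t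
  have ht1 : t ≠ 1 := by rintro rfl; rw [orderOf_one] at hot'; omega
  have hc1 : k * t * k⁻¹ ∈ N := hNn.conj_mem t ht k
  have hc2 : k⁻¹ * t * k ∈ N := by
    have := hNn.conj_mem t ht k⁻¹
    rwa [inv_inv] at this
  have hne1 : k * t * k⁻¹ ≠ t := by
    intro h
    apply hno t hot'
    rw [mul_inv_eq_iff_eq_mul] at h
    exact h.symm
  have hne2 : k⁻¹ * t * k ≠ t := by
    intro h
    apply hno t hot'
    rw [mul_assoc, inv_mul_eq_iff_eq_mul] at h
    exact h
  have hne3 : k * t * k⁻¹ ≠ k⁻¹ * t * k := by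
    intro h
    apply hne1
    have hkk : k * k = k⁻¹ := by
      rw [eq_inv_iff_mul_eq_one, ← pow_two, ← pow_succ, hk3]
    have h4 : k * (k * t * k⁻¹) * k⁻¹ = t := by
      rw [h]; group
    have h5 : k⁻¹ * t * k = t := by
      rw [← hkk] 
      have : k * (k * t * k⁻¹) * k⁻¹ = k * k * t * (k * k)⁻¹ := by group
      rw [this, hkk, inv_inv] at h4
      rw [hkk]
      exact h4
    exact absurd h5 hne2
  have hsub : ({1, t, k * t * k⁻¹, k⁻¹ * t * k} : Finset K) ⊆ (N : Set K).toFinset := by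
    intro x hx
    simp only [Finset.mem_insert, Finset.mem_singleton] at hx
    rw [Set.mem_toFinset]
    rcases hx with rfl | rfl | rfl | rfl
    · exact one_mem N
    · exact ht
    · exact hc1
    · exact hc2
  have hcard4 : ({1, t, k * t * k⁻¹, k⁻¹ * t * k} : Finset K).card = 4 := by
    have h11 : k * t * k⁻¹ ≠ 1 := by
      intro h; have := hconj k; rw [h, orderOf_one] at this; omega
    have h12 : k⁻¹ * t * k ≠ 1 := by
      intro h; have := hconj k⁻¹; rw [inv_inv, h, orderOf_one] at this; omega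
    rw [Finset.card_insert_of_notMem, Finset.card_insert_of_notMem, Finset.card_insert_of_notMem,
      Finset.card_singleton]
    · simpa using hne3
    · simp only [Finset.mem_insert, Finset.mem_singleton, not_or]
      exact ⟨hne1.symm, hne2.symm⟩
    · simp only [Finset.mem_insert, Finset.mem_singleton, not_or]
      exact ⟨ht1.symm, h11.symm, h12.symm⟩
  have hNc : ((N : Set K).toFinset).card = Nat.card N := by
    rw [Set.toFinset_card, Nat.card_eq_fintype_card]
    rfl
  have hle : 4 ≤ Nat.card N := by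
    rw [← hcard4, ← hNc]
    exact Finset.card_le_card hsub
  have hge : Nat.card N ≤ 4 := by
    rw [← hT]
    exact Nat.le_of_dvd Nat.card_pos (Subgroup.card_dvd_of_le hNT)
  refine ⟨N, le_antisymm hge hle, fun x hx hx1 => ?_⟩
  have heq : ({1, t, k * t * k⁻¹, k⁻¹ * t * k} : Finset K) = (N : Set K).toFinset :=
    Finset.eq_of_subset_of_card_le hsub (by rw [hNc, hcard4]; exact hge)
  have hx' : x ∈ ({1, t, k * t * k⁻¹, k⁻¹ * t * k} : Finset K) := by
    rw [heq, Set.mem_toFinset]; exact hx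
  simp only [Finset.mem_insert, Finset.mem_singleton] at hx'
  rcases hx' with rfl | rfl | rfl | rfl
  · exact absurd rfl hx1
  · exact hot'
  · exact hconj k
  · have := hconj k⁻¹
    rwa [inv_inv] at this

/-- In a group of order `144` a subgroup `R` of order nine is not the centraliser of all its
nontrivial elements. -/
theorem order144 {K : Type u} [Group K] [Finite K] (hK : Nat.card K = 144) (R : Subgroup K)
    (hR : Nat.card R = 9) (hC : ∀ k ∈ R, k ≠ 1 → ∀ x : K, x * k = k * x → x ∈ R) : False := by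
  classical
  have h3 : Fact (Nat.Prime 3) := ⟨by norm_num⟩
  have hRp : IsPGroup 3 R := IsPGroup.of_card (n := 2) (by rw [hR]; norm_num)
  have hfac : (144 : ℕ).factorization 3 = 2 := by
    rw [show (144 : ℕ) = 3 ^ 2 * 16 by norm_num, Nat.factorization_mul (by norm_num) (by norm_num),
      Nat.Prime.factorization_pow Nat.prime_three, show (16 : ℕ) = 2 ^ 4 by norm_num,
      Nat.Prime.factorization_pow Nat.prime_two]
    simp
  have hSyl : ∀ Q : Sylow 3 K, Nat.card (Q : Subgroup K) = 9 := by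
    intro Q
    have h1 := Q.card_eq_multiplicity
    rw [hK, hfac] at h1
    exact h1
  let R' : Sylow 3 K := Sylow.ofCard R (by rw [hK, hfac, hR]; norm_num)
  have hR' : (R' : Subgroup K) = R := rfl
  -- fixed points
  have hfix : ∀ r ∈ R, r ≠ 1 → ∀ Q : Sylow 3 K, r • Q = Q → Q = R' := by
    intro r hr hr1 Q hQ
    rw [Sylow.smul_eq_iff_mem_normalizer] at hQ
    have h1 : r ∈ (Q : Subgroup K) := by
      have h2 := hRp.inf_normalizer_sylow Q
      have h4 : r ∈ R ⊓ (Q : Subgroup K) := by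
        rw [← h2]
        exact ⟨hr, hQ⟩
      exact h4.2
    have hQR : (Q : Subgroup K) ≤ R := by
      intro q hq
      have hcomm : ∀ a b : (Q : Subgroup K), a * b = b * a :=
        (IsPGroup.isMulCommutative_of_card_eq_prime_sq (p := 3)
          (by rw [hSyl Q]; norm_num)).is_comm.comm
      exact hC r hr hr1 q (congrArg Subtype.val (hcomm ⟨q, hq⟩ ⟨r, h1⟩))
    have h5 : (Q : Subgroup K) = R := Subgroup.eq_of_le_of_card_ge hQR (by rw [hR, hSyl Q])
    exact Sylow.ext (h5.trans hR'.symm)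
  have := Fintype.ofFinite R
  have := Fintype.ofFinite (Sylow 3 K)
  have : ∀ r : R, Fintype (MulAction.fixedBy (Sylow 3 K) r) := fun r => Fintype.ofFinite _
  have : Fintype (Quotient (MulAction.orbitRel R (Sylow 3 K))) := Fintype.ofFinite _
  have hburn := MulAction.sum_card_fixedBy_eq_card_orbits_mul_card_group R (Sylow 3 K)
  rw [← Finset.add_sum_erase _ _ (Finset.mem_univ (1 : R))] at hburn
  have hone : Fintype.card (MulAction.fixedBy (Sylow 3 K) (1 : R)) = Nat.card (Sylow 3 K) := by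
    rw [← Nat.card_eq_fintype_card]
    have : MulAction.fixedBy (Sylow 3 K) (1 : R) = Set.univ := by
      ext Q; simp
    rw [this]
    exact Nat.card_congr (Equiv.Set.univ _)
  have hoth : ∀ r ∈ Finset.univ.erase (1 : R),
      Fintype.card (MulAction.fixedBy (Sylow 3 K) r) = 1 := by
    intro r hr
    have hr1 : (r : K) ≠ 1 := fun h => Finset.ne_of_mem_erase hr (Subtype.ext h)
    rw [Fintype.card_eq_one_iff]
    refine ⟨⟨R', ?_⟩, ?_⟩
    · rw [MulAction.mem_fixedBy]
      change (r : K) • R' = R'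
      rw [Sylow.smul_eq_iff_mem_normalizer]
      exact le_normalizer r.2
    · rintro ⟨Q, hQ⟩
      exact Subtype.ext (hfix r r.2 hr1 Q hQ)
  rw [hone, Finset.sum_congr rfl hoth, Finset.sum_const, Finset.card_erase_of_mem
    (Finset.mem_univ _), Finset.card_univ, ← Nat.card_eq_fintype_card (α := R), hR] at hburn
  have hdvd : Nat.card (Sylow 3 K) ∣ 16 := by
    have h1 := R'.card_dvd_index
    have h2 : (R' : Subgroup K).index = 16 := by
      have h4 := (R' : Subgroup K).card_mul_index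
      rw [hSyl R', hK] at h4
      omega
    rwa [h2] at h1
  have hn1 : Nat.card (Sylow 3 K) = 1 := by
    have h1 : Nat.card (Sylow 3 K) ≤ 16 := Nat.le_of_dvd (by norm_num) hdvd
    have h2 : Nat.card (Sylow 3 K) % 9 = 1 := by
      simp only [smul_eq_mul, mul_one] at hburn
      omega
    have h4 : Nat.card (Sylow 3 K) = 1 ∨ Nat.card (Sylow 3 K) = 10 := by omega
    rcases h4 with h4 | h4
    · exact h4
    · rw [h4] at hdvd
      norm_num at hdvd
  have hnorm : R.Normal := by
    have : Subsingleton (Sylow 3 K) := (Nat.card_eq_one_iff_unique.1 hn1).1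
    have := Sylow.normal_of_subsingleton R'
    rwa [hR'] at this
  -- a class in `R`
  have hnt : Nontrivial R := by
    rw [← Finite.one_lt_card_iff_nontrivial, hR]; norm_num
  obtain ⟨⟨k, hk⟩, hk1⟩ := exists_ne (1 : R)
  have hk1' : k ≠ 1 := fun h => hk1 (Subtype.ext h)
  have hidx := MulAction.index_stabilizer (ConjAct K) k
  have hstab : Nat.card (MulAction.stabilizer (ConjAct K) k) ≤ 9 := by
    rw [← hR]
    refine Nat.card_le_card_of_injective (fun c : MulAction.stabilizer (ConjAct K) k =>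
      (⟨ConjAct.ofConjAct c.1, ?_⟩ : R)) ?_
    · have h1 := MulAction.mem_stabilizer_iff.1 c.2
      rw [ConjAct.smul_def, mul_inv_eq_iff_eq_mul] at h1
      exact hC k hk hk1' _ h1
    · intro a b hab
      have h1 := congrArg Subtype.val hab
      exact Subtype.ext (ConjAct.ofConjAct.injective h1)
  have horb : (MulAction.orbit (ConjAct K) k).ncard ≤ 8 := by
    have h1 : MulAction.orbit (ConjAct K) k ⊆ (R : Set K) \ {1} := by
      rintro _ ⟨c, rfl⟩
      simp only [ConjAct.smul_def]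
      refine ⟨hnorm.conj_mem k hk _, fun h => hk1' ?_⟩
      rw [Set.mem_singleton_iff, mul_inv_eq_one] at h
      exact mul_eq_left.1 h
    have h2 := Set.ncard_le_ncard h1 (Set.toFinite _)
    have h4 : ((R : Set K) \ {1}).ncard = 8 := by
      rw [Set.ncard_sdiff_singleton_of_mem (one_mem R)]
      have : (R : Set K).ncard = 9 := hR
      rw [this]
    omega
  have hmul := (MulAction.stabilizer (ConjAct K) k).card_mul_index
  have hKc : Nat.card (ConjAct K) = 144 := hK
  rw [hidx, hKc] at hmul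
  have h6 : Nat.card (MulAction.stabilizer (ConjAct K) k) *
      (MulAction.orbit (ConjAct K) k).ncard ≤ 9 * 8 := Nat.mul_le_mul hstab horb
  omega

/-! ### Congruences -/

variable {G : Type u} [Group G] [Finite G]

/-- `χ(a b) ≡ χ(b)` modulo `q` if `a` is a `q`-element and `b` is `q`-regular. -/
theorem dvd_sub_of_ppart {q : ℕ} (hq : q.Prime) {χ : G → ℂ} (hχ : IsIrrCharacter G χ) {a b : G}
    (hab : Commute a b) (ha : ∃ k : ℕ, orderOf a = q ^ k) (hb : ¬ q ∣ orderOf b) {m n : ℤ}
    (hm : χ (a * b) = m) (hn : χ b = n) : (q : ℤ) ∣ m - n := by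
  obtain ⟨M, hM⟩ := Blocks.ExistsModular.exists_isPModular hq
  have h1 := Cfsg.Agent.CharactersDeep.ModCongr.memLocalIdeal_character_sub hM hχ (a * b) a
    ⟨b, rfl, hab, ha, hb⟩
  rw [inv_mul_cancel_left, hm, hn] at h1
  have h4 : (m : ℂ) - (n : ℂ) = ((m - n : ℤ) : ℂ) := by push_cast; ring
  rw [h4] at h1
  exact (Blocks.Local.memLocalIdeal_intCast_iff hM _).1 h1

variable [IsSimpleGroup G]

/-- The exceptional degree. -/
theorem degree_X (hcard : Nat.card G = 10200960) {P : Sylow 11 G} {K : Subgroup G}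
    (h : IsLocal 11 P 5 K) (h3 : 3 ∣ Nat.card K) (h2 : 2 ∣ Nat.card K) [Fact (Nat.Prime 11)]
    {M : Ideal AlgInt} {NE X : Finset (IrrCharacter G)} {ε : IrrCharacter G → ℤ} {d : ℤ}
    {S : IrrCharacter G → Finset (P →* ℂˣ)} (B : Blk 11 P 5 2 M NE X ε d S)
    {Θ : IrrCharacter G} (hΘ : Θ ∈ X) : charDegree (Θ : G → ℂ) = 160 := by
  classical
  have hp3 : Fact (Nat.Prime 3) := ⟨by norm_num⟩
  have hp2 : Fact (Nat.Prime 2) := ⟨by norm_num⟩
  have hK1 : Nat.card K ≠ 1 := by rintro h1; rw [h1] at h3; norm_num at h3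
  have hP := ElevenTen.card_eleven hcard P
  let P23 : Sylow 23 G := default
  obtain ⟨⟨k, hk⟩, hok⟩ := exists_prime_orderOf_dvd_card' 3 h3
  have hok' : orderOf k = 3 := by rwa [← Subgroup.orderOf_coe] at hok
  obtain ⟨⟨t, ht⟩, hot⟩ := exists_prime_orderOf_dvd_card' 2 h2
  have hot' : orderOf t = 2 := by rwa [← Subgroup.orderOf_coe] at hot
  have h9 : ∀ χ : IrrCharacter G, χ ∈ NE ∨ χ ∈ X → ¬ 9 ∣ charDegree (χ : G → ℂ) := fun χ hχ =>
    B.not_dvd hP (r := 3) (a := 2) (by norm_num) (by norm_num) (by rw [hcard]; norm_num)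
      (by rw [hcard]; norm_num) (h.le_centralizer hk) hok' hχ
  have h128 : ∀ χ : IrrCharacter G, χ ∈ NE ∨ χ ∈ X → ¬ 128 ∣ charDegree (χ : G → ℂ) :=
    fun χ hχ =>
    B.not_dvd hP (r := 2) (a := 7) (by norm_num) (by norm_num) (by rw [hcard]; norm_num)
      (by rw [hcard]; norm_num) (h.le_centralizer ht) hot' hχ
  choose v hv1 hv2 using fun χ : IrrCharacter G => adm hcard P23 χ
  have hrel := sum_V_eq hcard P23 B hΘ (v := v) hv1
  have hvNE : ∀ χ ∈ NE.erase ⟨1, isIrr_one⟩, ε χ * v χ = 0 := by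
    intro χ hχ
    have hχN := Finset.mem_of_mem_erase hχ
    obtain ⟨s, a, hs1, hs2, hs3, hs4, hs5, hs6, -⟩ := ne_facts hcard P23 h hK1 B hχN
      (Finset.ne_of_mem_erase hχ)
    rw [arithN hs4 (by omega) hs3 (by omega) (hv2 χ) (h9 χ (Or.inl hχN)) (h128 χ (Or.inl hχN)),
      mul_zero]
  have hv22 : v ⟨1, isIrr_one⟩ = 22 := by
    have := (hv1 ⟨1, isIrr_one⟩).symm.trans (v_one hcard P23)
    exact_mod_cast this
  rw [← Finset.add_sum_erase _ _ B.kb.one_mem, Finset.sum_eq_zero hvNE, B.kb.eps_one,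
    hv22] at hrel
  have hv : v Θ = 22 ∨ v Θ = -22 := by
    rcases B.kb.hd with h1 | h1 <;> rw [h1] at hrel <;> omega
  obtain ⟨s, a, hs1, hs2, hs3, hs4, hs5, hs6, -⟩ := x_facts hcard P23 h hK1 B hΘ
  exact arithX hs4 (by omega) hs3 (by omega) (hv2 Θ) hv (h9 Θ (Or.inr hΘ)) (h128 Θ (Or.inr hΘ))

section values

variable {P : Sylow 11 G} {K : Subgroup G} [Fact (Nat.Prime 11)]
  {M : Ideal AlgInt} {NE X : Finset (IrrCharacter G)} {ε : IrrCharacter G → ℤ} {d : ℤ}
  {S : IrrCharacter G → Finset (P →* ℂˣ)} {Θ : IrrCharacter G} {y : G}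

theorem ne_one (hdeg : charDegree (Θ : G → ℂ) = 160) : (Θ : G → ℂ) ≠ 1 := by
  intro h
  have h1 := irr_one_eq_charDegree Θ.2
  rw [hdeg, h] at h1
  norm_num at h1

/-- Values of an exceptional character at the elements of `K` commuting with `y`. -/
theorem val (hcard : Nat.card G = 10200960) (h : IsLocal 11 P 5 K)
    (h5K : ¬ 5 ∣ Nat.card K) (B : Blk 11 P 5 2 M NE X ε d S) (hΘ : Θ ∈ X)
    (hdeg : charDegree (Θ : G → ℂ) = 160) (hy : orderOf y = 5) {k : G} (hk : k ∈ K)
    (hyk : y * k = k * y) (hk1 : k ≠ 1) :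
    ∃ z : ℤ, (Θ : G → ℂ) k = z ∧ |z| < 160 ∧ (55 : ℤ) ∣ 160 - z := by
  have hP := ElevenTen.card_eleven hcard P
  have hok : orderOf k ∣ Nat.card K := by
    have := orderOf_dvd_natCard (⟨k, hk⟩ : K)
    rwa [Subgroup.orderOf_mk] at this
  have h11 : ¬ 11 ∣ orderOf k := fun h' => h.not_dvd (h'.trans hok)
  have h5 : ¬ 5 ∣ orderOf k := fun h' => h5K (h'.trans hok)
  obtain ⟨z, hz⟩ := BlockInt.exists_int B hP (by norm_num) (by norm_num) hΘ h11
  have hone : (Θ : G → ℂ) 1 = ((160 : ℤ) : ℂ) := by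
    rw [irr_one_eq_charDegree Θ.2, hdeg]; norm_num
  have hne := ne_one hdeg
  refine ⟨z, hz, ?_, ?_⟩
  · -- the absolute value
    have hle : ‖(Θ : G → ℂ) k‖ ≤ 160 := by
      obtain ⟨⟨χ, hχ⟩, hΘ'⟩ : ∃ χ : IrrCharacter G, χ = Θ := ⟨Θ, rfl⟩
      subst hΘ'
      obtain ⟨n, ρ, hρ, rfl⟩ := hχ
      have h1 := Cfsg.Agent.Characters.Values.norm_character_le ρ k
      have h2 : (Module.finrank ℂ (Fin n → ℂ) : ℂ) = ((160 : ℤ) : ℂ) := by
        rw [← hone]; exact ρ.char_one.symm
      have h3 : Module.finrank ℂ (Fin n → ℂ) = 160 := by exact_mod_cast h2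
      rw [h3] at h1
      exact_mod_cast h1
    have hle' : |z| ≤ 160 := by
      rw [hz, Complex.norm_intCast] at hle
      exact_mod_cast hle
    refine lt_of_le_of_ne hle' fun h' => hk1 ?_
    refine Cfsg.Agent.MTwelve.SmallDegree.eq_one_of_norm_eq (Sylow23.perfect hcard) Θ.2 hne ?_
    rw [hz, hone, Complex.norm_intCast, Complex.norm_intCast]
    have : ((|z| : ℤ) : ℝ) = ((160 : ℤ) : ℝ) := by rw [h']
    rw [Int.cast_abs] at this
    rw [this]
    norm_num
  · -- the congruences modulo `5` and `11`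
    have hzero : (Θ : G → ℂ) (y * k) = ((0 : ℤ) : ℂ) := by
      have hcomm : Commute y k := hyk
      have hyo : 5 ∣ orderOf (y * k)⁻¹ := by
        rw [orderOf_inv, hcomm.orderOf_mul_eq_mul_orderOf_of_coprime, hy]
        · exact dvd_mul_right _ _
        · rw [hy]
          exact (Nat.Prime.coprime_iff_not_dvd (by norm_num)).2 h5
      obtain ⟨⟨χ, hχ⟩, hΘ'⟩ : ∃ χ : IrrCharacter G, χ = Θ := ⟨Θ, rfl⟩
      subst hΘ'
      obtain ⟨n, ρ, hρ, rfl⟩ := hχ
      have h2 : (Module.finrank ℂ (Fin n → ℂ) : ℂ) = ((160 : ℤ) : ℂ) := by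
        rw [← hone]; exact ρ.char_one.symm
      have h3 : Module.finrank ℂ (Fin n → ℂ) = 160 := by exact_mod_cast h2
      have := Fintype.ofFinite G
      have h4 := Cfsg.Agent.Characters.DefectZero.character_inv_eq_zero ρ hρ 5 1 (by norm_num)
        (by rw [hcard]; norm_num) (by rw [hcard]; norm_num) (by rw [h3]; norm_num) (y * k)⁻¹ hyo
      rw [inv_inv] at h4
      rw [Int.cast_zero]
      exact h4
    have hc5 : (5 : ℤ) ∣ 0 - z := by
      have := dvd_sub_of_ppart (q := 5) (by norm_num) Θ.2 (a := y) (b := k) hyk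
        ⟨1, by rw [hy]; norm_num⟩ h5 hzero hz
      exact_mod_cast this
    have hc11 : (11 : ℤ) ∣ 160 - z := by
      have hmul : ∀ x ∈ (P : Subgroup G), x ≠ 1 → (Θ : G → ℂ) (x * k) = (Θ : G → ℂ) x := by
        intro x hx hx1
        have hone' : ¬ 11 ∣ orderOf (1 : G) := by rw [orderOf_one]; norm_num
        have hv := (B.val_X Θ hΘ).2.2 ⟨x, hx⟩ (fun h' => hx1 (congrArg Subtype.val h'))
        have h1 := hv 1 (one_mem _) hone'
        rw [mul_one] at h1
        rw [hv k (h.le_centralizer hk) h11]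
        exact h1.symm
      have := SylowTools.dvd_sub_of_mul_eq B.modular (P := (P : Subgroup G)) hP Θ.2
        (h.le_centralizer hk) h11 hmul (n := 160) (z := z) hone hz
      exact_mod_cast this
    omega

theorem val_two (hcard : Nat.card G = 10200960) (h : IsLocal 11 P 5 K)
    (h5K : ¬ 5 ∣ Nat.card K) (B : Blk 11 P 5 2 M NE X ε d S) (hΘ : Θ ∈ X)
    (hdeg : charDegree (Θ : G → ℂ) = 160) (hy : orderOf y = 5) {t : G} (ht : t ∈ K)
    (hyt : y * t = t * y) (hot : orderOf t = 2) : (Θ : G → ℂ) t = ((-60 : ℤ) : ℂ) := by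
  have ht1 : t ≠ 1 := by rintro rfl; rw [orderOf_one] at hot; omega
  obtain ⟨z, hz, hlt, h55⟩ := val hcard h h5K B hΘ hdeg hy ht hyt ht1
  have ht2 : t ^ 2 = 1 := by rw [← hot]; exact pow_orderOf_eq_one t
  obtain ⟨z', hz', -, h4⟩ := InvolColumn.exists_int (Sylow23.perfect hcard) Θ.2 (ne_one hdeg)
    ht2 ht1
  have : z' = z := by
    have := hz'.symm.trans hz
    exact_mod_cast this
  subst this
  rw [hdeg] at h4
  rw [abs_lt] at hlt
  have : z' = -60 := by push_cast at h4; omega
  rw [hz, this]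

theorem val_three (hcard : Nat.card G = 10200960) (h : IsLocal 11 P 5 K)
    (h5K : ¬ 5 ∣ Nat.card K) (B : Blk 11 P 5 2 M NE X ε d S) (hΘ : Θ ∈ X)
    (hdeg : charDegree (Θ : G → ℂ) = 160) (hy : orderOf y = 5) {k : G} (hk : k ∈ K)
    (hyk : y * k = k * y) (hok : orderOf k = 3) : (Θ : G → ℂ) k = ((-5 : ℤ) : ℂ) := by
  have hk1 : k ≠ 1 := by rintro rfl; rw [orderOf_one] at hok; omega
  obtain ⟨z, hz, hlt, h55⟩ := val hcard h h5K B hΘ hdeg hy hk hyk hk1
  have hone : (Θ : G → ℂ) 1 = ((160 : ℤ) : ℂ) := by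
    rw [irr_one_eq_charDegree Θ.2, hdeg]; norm_num
  have h3 := dvd_sub_of_ppart (q := 3) (by norm_num) Θ.2 (a := k) (b := 1) (Commute.one_right k)
    ⟨1, by rw [hok]; norm_num⟩ (by rw [orderOf_one]; norm_num) (m := z) (by rw [mul_one, hz]) hone
  rw [abs_lt] at hlt
  have : z = -5 := by push_cast at h3; omega
  rw [hz, this]

theorem int_six {z : ℤ} (hlt : |z| < 160) (h55 : (55 : ℤ) ∣ 160 - z) (h2 : (2 : ℤ) ∣ z - (-5))
    (h3 : (3 : ℤ) ∣ z - (-60)) : z = 105 := by
  rw [abs_lt] at hlt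
  obtain ⟨h4, h5⟩ := hlt
  obtain ⟨a, ha⟩ := h55
  obtain ⟨b, hb⟩ := h2
  obtain ⟨c, hc⟩ := h3
  have h6 : 0 < a := by omega
  have h7 : a < 6 := by omega
  interval_cases a <;> omega

theorem val_six (hcard : Nat.card G = 10200960) (h : IsLocal 11 P 5 K)
    (h5K : ¬ 5 ∣ Nat.card K) (B : Blk 11 P 5 2 M NE X ε d S) (hΘ : Θ ∈ X)
    (hdeg : charDegree (Θ : G → ℂ) = 160) (hy : orderOf y = 5) {t k : G}
    (ht : t ∈ K) (hk : k ∈ K) (hyt : y * t = t * y) (hyk : y * k = k * y) (hot : orderOf t = 2)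
    (hok : orderOf k = 3) (hc : t * k = k * t) : (Θ : G → ℂ) (t * k) = ((105 : ℤ) : ℂ) := by
  have hcomm : Commute t k := hc
  have hs : t * k ∈ K := mul_mem ht hk
  have hys : y * (t * k) = t * k * y := by
    rw [← mul_assoc, hyt, mul_assoc, hyk, mul_assoc]
  have hs1 : t * k ≠ 1 := by
    intro h'
    have h6 : t = k⁻¹ := mul_eq_one_iff_eq_inv.1 h'
    rw [h6, orderOf_inv, hok] at hot
    omega
  obtain ⟨z, hz, hlt, h55⟩ := val hcard h h5K B hΘ hdeg hy hs hys hs1
  have hzt := val_two hcard h h5K B hΘ hdeg hy ht hyt hot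
  have hzk := val_three hcard h h5K B hΘ hdeg hy hk hyk hok
  have hz' : (Θ : G → ℂ) (k * t) = (z : ℂ) := by rw [← hc]; exact hz
  have h2 : (2 : ℤ) ∣ z - (-5) := by
    refine dvd_sub_of_ppart Nat.prime_two Θ.2 hcomm ?_ ?_ hz hzk
    · exact ⟨1, by rw [hot, pow_one]⟩
    · rw [hok]; norm_num
  have h3 : (3 : ℤ) ∣ z - (-60) := by
    refine dvd_sub_of_ppart Nat.prime_three Θ.2 hcomm.symm ?_ ?_ hz' hzt
    · exact ⟨1, by rw [hok, pow_one]⟩
    · rw [hot]; norm_num
  rw [hz, int_six hlt h55 h2 h3]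

/-- No element of order two and no element of order three of `C_K(y)` commute. -/
theorem not_commute (hcard : Nat.card G = 10200960) (h : IsLocal 11 P 5 K)
    (h3K : 3 ∣ Nat.card K) (h2K : 2 ∣ Nat.card K)
    (h5K : ¬ 5 ∣ Nat.card K) (B : Blk 11 P 5 2 M NE X ε d S) (hy : orderOf y = 5) {t k : G}
    (ht : t ∈ K) (hk : k ∈ K) (hyt : y * t = t * y) (hyk : y * k = k * y) (hot : orderOf t = 2)
    (hok : orderOf k = 3) : t * k ≠ k * t := by
  classical
  intro hc
  have hcomm : Commute t k := hc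
  have hs : t * k ∈ K := mul_mem ht hk
  have hys : y * (t * k) = t * k * y := by
    rw [← mul_assoc, hyt, mul_assoc, hyk, mul_assoc]
  have hso : orderOf (t * k) = 6 := by
    rw [hcomm.orderOf_mul_eq_mul_orderOf_of_coprime, hot, hok]
    rw [hot, hok]; norm_num
  have hs1 : t * k ≠ 1 := by intro h'; rw [h', orderOf_one] at hso; omega
  have hval : ∀ Θ ∈ X, (Θ : G → ℂ) (t * k) = ((105 : ℤ) : ℂ) := fun Θ hΘ =>
    val_six hcard h h5K B hΘ (degree_X hcard h h3K h2K B hΘ) hy ht hk hyt hyk hot hok hc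
  have hsum := InvolColumn.sum_sq_le X (t * k) (fun _ => 105) hval
  rw [Finset.sum_const, B.kb.card_X] at hsum
  -- the centraliser
  obtain ⟨Θ, hΘ⟩ : ∃ Θ, Θ ∈ X := by
    apply Finset.card_pos.1
    rw [B.kb.card_X]; norm_num
  have hdeg := degree_X hcard h h3K h2K B hΘ
  have hdvd := InvolColumn.dvd_index_mul Θ.2 (hval Θ hΘ)
  rw [hdeg] at hdvd
  have h32 : 32 ∣ (centralizer ({t * k} : Set G)).index := by
    have h1 : (32 : ℤ) ∣ ((centralizer ({t * k} : Set G)).index : ℤ) := by
      push_cast at hdvd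
      omega
    exact_mod_cast h1
  have h23 := not_dvd_centralizer hcard hs1 (by rw [hso]; norm_num)
  have hmul := (centralizer ({t * k} : Set G)).card_mul_index
  rw [hcard] at hmul
  obtain ⟨c, hc'⟩ := h32
  have h4 : Nat.card (centralizer ({t * k} : Set G)) * c = 23 * 13860 := by
    rw [hc'] at hmul
    have : 32 * (Nat.card (centralizer ({t * k} : Set G)) * c) = 32 * (23 * 13860) := by
      rw [← mul_assoc, mul_comm 32, mul_assoc, hmul]
    omega
  have h5 : Nat.card (centralizer ({t * k} : Set G)) ∣ 13860 := by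
    have h6 : Nat.Coprime (Nat.card (centralizer ({t * k} : Set G))) 23 :=
      ((Nat.Prime.coprime_iff_not_dvd (by norm_num)).2 h23).symm
    exact h6.dvd_of_dvd_mul_left (Dvd.intro c h4)
  have h6 := Nat.le_of_dvd (by norm_num) h5
  have h7 : (Nat.card (centralizer ({t * k} : Set G)) : ℤ) ≤ 13860 := by exact_mod_cast h6
  norm_num at hsum
  omega

/-- `C_K(k)` has odd order if `k` has order three and commutes with `y`. -/
theorem not_two_dvd (hcard : Nat.card G = 10200960) (h : IsLocal 11 P 5 K)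
    (h3K : 3 ∣ Nat.card K) (h2K : 2 ∣ Nat.card K)
    (h5K : ¬ 5 ∣ Nat.card K) (B : Blk 11 P 5 2 M NE X ε d S) (hy : orderOf y = 5)
    (hyN : y ∈ normalizer (P : Set G)) {k : G} (hk : k ∈ K) (hyk : y * k = k * y)
    (hok : orderOf k = 3) : ¬ 2 ∣ Nat.card (K ⊓ centralizer ({k} : Set G) : Subgroup G) := by
  intro h2
  have hp2 : Fact (Nat.Prime 2) := ⟨by norm_num⟩
  have hp5 : Fact (Nat.Prime 5) := ⟨by norm_num⟩
  obtain ⟨Θ, hΘ⟩ : ∃ Θ, Θ ∈ X := by
    apply Finset.card_pos.1
    rw [B.kb.card_X]; norm_num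
  have hdeg := degree_X hcard h h3K h2K B hΘ
  have hval := val_three hcard h h5K B hΘ hdeg hy hk hyk hok
  have hdvd := InvolColumn.dvd_index_mul Θ.2 hval
  rw [hdeg] at hdvd
  have h32 : 32 ∣ (centralizer ({k} : Set G)).index := by
    have h1 : (32 : ℤ) ∣ ((centralizer ({k} : Set G)).index : ℤ) := by
      push_cast at hdvd
      omega
    exact_mod_cast h1
  have h8 : ¬ 8 ∣ Nat.card (K ⊓ centralizer ({k} : Set G) : Subgroup G) := by
    intro h8
    have h9 : 8 ∣ Nat.card (centralizer ({k} : Set G)) :=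
      h8.trans (Subgroup.card_dvd_of_le inf_le_right)
    have h10 := Nat.mul_dvd_mul h9 h32
    rw [card_mul_index, hcard] at h10
    revert h10
    norm_num
  have hyK := h.normalizer_le hyN
  have hyL : y ∈ normalizer ((K ⊓ centralizer ({k} : Set G) : Subgroup G) : Set G) := by
    rw [mem_normalizer_iff]
    intro g
    have h1 := mem_normalizer_iff.1 hyK g
    have h3 : g ∈ centralizer ({k} : Set G) ↔ y * g * y⁻¹ ∈ centralizer ({k} : Set G) := by
      rw [mem_centralizer_singleton_iff, mem_centralizer_singleton_iff]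
      have h4 : y * g * y⁻¹ * k = y * (g * k) * y⁻¹ := by
        have h5 : y⁻¹ * k = k * y⁻¹ := by
          rw [inv_mul_eq_iff_eq_mul, ← mul_assoc, hyk, mul_inv_cancel_right]
        rw [mul_assoc, h5]; group
      have h6 : k * (y * g * y⁻¹) = y * (k * g) * y⁻¹ := by
        rw [← mul_assoc, ← mul_assoc, ← hyk]; group
      rw [h4, h6]
      constructor
      · intro h7; rw [h7]
      · intro h7
        exact mul_left_cancel (mul_right_cancel h7)
    rw [Subgroup.mem_inf, Subgroup.mem_inf, ← h1, ← h3]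
  have h5L : ¬ 5 ∣ Nat.card (K ⊓ centralizer ({k} : Set G) : Subgroup G) := fun h' =>
    h5K (h'.trans (Subgroup.card_dvd_of_le inf_le_left))
  obtain ⟨t, ht, hot, hyt⟩ := Cfsg.Agent.M22.NonSelfCent.exists_commuting (q := 5) (r := 2)
    (K ⊓ centralizer ({k} : Set G) : Subgroup G) hyL hy h5L h2 (fun j hj hjd => by
      have hj3 : j < 3 := by
        by_contra hcon
        exact h8 ((pow_dvd_pow 2 (by omega : 3 ≤ j)).trans hjd)
      interval_cases j <;> norm_num)
  exact not_commute hcard h h3K h2K h5K B hy ht.1 hk hyt hyk hot hok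
    (mem_centralizer_singleton_iff.1 ht.2)

/-- **(E5).** -/
theorem five_false (hcard : Nat.card G = 10200960) {P : Sylow 11 G} {K : Subgroup G}
    (h : IsLocal 11 P 5 K) (hk : Nat.card K = 144 ∨ Nat.card K = 12) : False := by
  classical
  have hp11 : Fact (Nat.Prime 11) := ⟨by norm_num⟩
  have hp5 : Fact (Nat.Prime 5) := ⟨by norm_num⟩
  have hp3 : Fact (Nat.Prime 3) := ⟨by norm_num⟩
  have h3K : 3 ∣ Nat.card K := by rcases hk with h | h <;> rw [h] <;> norm_num
  have h2K : 2 ∣ Nat.card K := by rcases hk with h | h <;> rw [h] <;> norm_num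
  have h5K : ¬ 5 ∣ Nat.card K := by rcases hk with h | h <;> rw [h] <;> norm_num
  have hP := ElevenTen.card_eleven hcard P
  obtain ⟨M, NE, X, ε, d, S, B⟩ := exists_blk_of_local hcard (by norm_num) hP h
    (t := 2) (by norm_num)
  -- an element of order five in the normaliser
  have h5N : 5 ∣ Nat.card (normalizer (P : Set G)) := by
    rw [h.card_normalizer]
    exact (Dvd.intro_left 11 rfl).mul_right _
  obtain ⟨⟨y, hyN⟩, hoy⟩ := exists_prime_orderOf_dvd_card' 5 h5N
  have hy : orderOf y = 5 := by rwa [← Subgroup.orderOf_coe] at hoy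
  have hy5 : y ^ 5 = 1 := by rw [← hy]; exact pow_orderOf_eq_one y
  have hyK := h.normalizer_le hyN
  rcases hk with hk | hk
  · -- order 144
    have hA : IsPGroup 5 (zpowers y) := by
      apply IsPGroup.of_card (n := 1)
      rw [Nat.card_zpowers, hy, pow_one]
    have hAK : ∀ b ∈ zpowers y, ∀ u ∈ K, b * u * b⁻¹ ∈ K := by
      intro b hb u hu
      have h1 : b ∈ normalizer (K : Set G) := (zpowers_le.2 hyK) hb
      exact (mem_normalizer_iff.1 h1 u).1 hu
    obtain ⟨R, ⟨T, hT⟩, hR⟩ :=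
      Cfsg.Agent.Lib.PGroupCoprimeAction.exists_invariant_sylow hA h5K hAK 3
    have hTc : Nat.card (T : Subgroup K) = 9 := by
      have h1 := T.card_eq_multiplicity
      have hfac : (144 : ℕ).factorization 3 = 2 := by
        rw [show (144 : ℕ) = 3 ^ 2 * 16 by norm_num,
          Nat.factorization_mul (by norm_num) (by norm_num),
          Nat.Prime.factorization_pow Nat.prime_three, show (16 : ℕ) = 2 ^ 4 by norm_num,
          Nat.Prime.factorization_pow Nat.prime_two]
        simp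
      rw [hk, hfac] at h1
      exact h1
    have hRc : Nat.card R = 9 := by
      rw [← hTc, ← hT]
      exact Nat.card_congr ((T : Subgroup K).equivMapOfInjective K.subtype
        K.subtype_injective).symm.toEquiv
    have hRK : R ≤ K := by
      rw [← hT]
      rintro _ ⟨t, -, rfl⟩
      exact t.2
    have hyR : ∀ x ∈ R, y * x = x * y :=
      Cfsg.Agent.Lib.SimpleByPrime.commute_of_normalizes_prime_pow (p := 5) (r := 3) (k := 2)
        (by norm_num) (by norm_num) (by norm_num) R (by rw [hRc]; norm_num)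
        (fun i hi hi2 => by interval_cases i <;> decide) y hy5
        (fun x hx => hR y (mem_zpowers y) x hx)
    have hRcomm : ∀ a ∈ R, ∀ b ∈ R, a * b = b * a := by
      intro a ha b hb
      have := (IsPGroup.isMulCommutative_of_card_eq_prime_sq (p := 3) (G := R)
        (by rw [hRc]; norm_num)).is_comm.comm ⟨a, ha⟩ ⟨b, hb⟩
      exact congrArg Subtype.val this
    -- centralisers of elements of order three
    have hC3 : ∀ k ∈ R, orderOf k = 3 → ∀ x ∈ K, x * k = k * x → x ∈ R := by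
      intro k hkR hok x hx hxk
      have h2L := not_two_dvd hcard h h3K h2K h5K B hy hyN (hRK hkR) (hyR k hkR) hok
      have hRL : R ≤ (K ⊓ centralizer ({k} : Set G) : Subgroup G) := by
        intro r hr
        exact ⟨hRK hr, mem_centralizer_singleton_iff.2 (hRcomm r hr k hkR)⟩
      have hLc : Nat.card (K ⊓ centralizer ({k} : Set G) : Subgroup G) ∣ 9 := by
        have h1 : Nat.card (K ⊓ centralizer ({k} : Set G) : Subgroup G) ∣ 16 * 9 := by
          have := Subgroup.card_dvd_of_le (inf_le_left :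
            (K ⊓ centralizer ({k} : Set G) : Subgroup G) ≤ K)
          rw [hk] at this
          exact this
        have h2 : Nat.Coprime (Nat.card (K ⊓ centralizer ({k} : Set G) : Subgroup G)) 16 := by
          rw [show 16 = 2 ^ 4 by norm_num]
          exact Nat.Coprime.pow_right 4 ((Nat.Prime.coprime_iff_not_dvd Nat.prime_two).2 h2L).symm
        exact h2.dvd_of_dvd_mul_left h1
      have hLR : R = (K ⊓ centralizer ({k} : Set G) : Subgroup G) :=
        Subgroup.eq_of_le_of_card_ge hRL (by rw [hRc]; exact Nat.le_of_dvd (by norm_num) hLc)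
      rw [hLR]
      exact ⟨hx, mem_centralizer_singleton_iff.2 hxk⟩
    refine order144 hk (R.subgroupOf K) ?_ ?_
    · rw [← hRc]
      exact Nat.card_congr (subgroupOfEquivOfLe hRK).toEquiv
    · rintro ⟨k, hkK⟩ hkR hk1 ⟨x, hx⟩ hxk
      rw [mem_subgroupOf] at hkR ⊢
      simp only at hkR ⊢
      have hk1' : k ≠ 1 := fun h' => hk1 (Subtype.ext h')
      have hxk' : x * k = k * x := congrArg Subtype.val hxk
      have hko : orderOf k ∣ 3 ^ 2 := by
        have := orderOf_dvd_natCard (⟨k, hkR⟩ : R)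
        rw [Subgroup.orderOf_mk, hRc] at this
        exact this
      obtain ⟨i, hi, hki⟩ := (Nat.dvd_prime_pow Nat.prime_three).1 hko
      interval_cases i
      · rw [pow_zero, orderOf_eq_one_iff] at hki
        exact absurd hki hk1'
      · exact hC3 k hkR (by rw [hki]; norm_num) x hx hxk'
      · refine hC3 (k ^ 3) (R.pow_mem hkR 3) ?_ x hx ?_
        · rw [orderOf_pow, hki]; norm_num
        · exact (show Commute x k from hxk').pow_right 3
  · -- order 12
    have hKN : K ≤ normalizer (K : Set G) := le_normalizer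
    have hcardK : Nat.card (K.subgroupOf (normalizer (K : Set G))) = 12 :=
      (Nat.card_congr (subgroupOfEquivOfLe hKN).toEquiv).trans hk
    have hcomm : ∀ x ∈ K, y * x = x * y := by
      intro x hx
      have h1 := Cfsg.Agent.Lib.SimpleByPrime.commute_of_normal (p := 5) (by norm_num)
        (K.subgroupOf (normalizer (K : Set G))) (by rw [hcardK]; norm_num)
        (fun r i hr hi hd => by
          rw [hcardK] at hd
          have hle := Nat.le_of_dvd (by norm_num) hd
          have hr2 := hr.two_le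
          have hi4 : i < 4 := by
            by_contra hcon
            have h1 : 2 ^ 4 ≤ r ^ i :=
              (Nat.pow_le_pow_left hr2 4).trans (Nat.pow_le_pow_right (by omega) (by omega))
            omega
          have hr12 : r ≤ 12 := (Nat.le_self_pow hi.ne' r).trans hle
          exact key12 (by omega) hi4 hi hr hd)
        ⟨y, hyK⟩ (Subtype.ext hy5) ⟨x, hKN hx⟩ hx
      exact congrArg Subtype.val h1
    obtain ⟨k, hok⟩ := exists_prime_orderOf_dvd_card' (G := K) 3 h3K
    have hok' : orderOf (k : G) = 3 := by rw [Subgroup.orderOf_coe]; exact hok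
    obtain ⟨N, hN4, hN2⟩ := twelve hk hok (fun t ht hc => by
      have hot : orderOf (t : G) = 2 := by rw [Subgroup.orderOf_coe]; exact ht
      exact not_commute hcard h h3K h2K h5K B hy t.2 k.2 (hcomm t t.2) (hcomm k k.2) hot hok'
        (congrArg Subtype.val hc))
    obtain ⟨Θ, hΘ⟩ : ∃ Θ, Θ ∈ X := by
      apply Finset.card_pos.1
      rw [B.kb.card_X]; norm_num
    have hdeg := degree_X hcard h h3K h2K B hΘ
    have := Fintype.ofFinite N
    have hchar : IsCharacter K (fun g : K => (Θ : G → ℂ) g) :=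
      isCharacter_comp K.subtype (isIrr_isCharacter Θ.2)
    obtain ⟨m, hm⟩ := TheoremBCor.exists_sum_eq hchar N
    have hval : ∀ x ∈ Finset.univ.erase (1 : N), (Θ : G → ℂ) ((x : K) : G) = -60 := by
      intro x hx
      have hx1 : (x : K) ≠ 1 := fun h' => Finset.ne_of_mem_erase hx (Subtype.ext h')
      have h1 : orderOf ((x : K) : G) = 2 := by
        rw [Subgroup.orderOf_coe]; exact hN2 x x.2 hx1
      rw [val_two hcard h h5K B hΘ hdeg hy (x : K).2 (hcomm _ (x : K).2) h1]
      norm_num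
    rw [← Finset.add_sum_erase _ _ (Finset.mem_univ (1 : N)), Finset.sum_congr rfl hval,
      Finset.sum_const, Finset.card_erase_of_mem (Finset.mem_univ _), Finset.card_univ,
      ← Nat.card_eq_fintype_card (α := N), hN4] at hm
    have hone : (Θ : G → ℂ) (((1 : N) : K) : G) = 160 := by
      have h1 := irr_one_eq_charDegree Θ.2
      rw [hdeg] at h1
      exact_mod_cast h1
    rw [hone] at hm
    have h1 : ((-20 : ℤ) : ℂ) = ((4 * m : ℤ) : ℂ) := by
      push_cast
      rw [mul_comm] at hm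
      norm_num at hm ⊢
      exact hm
    have h2 : (-20 : ℤ) = 4 * m := Int.cast_injective h1
    omega

end values

end Cfsg.Agent.M23.ElevenFive
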