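import Cfsg.Agent.SmallSimple.TheoremBCor
import Cfsg.Agent.SmallSimple.InvolColumn
import Cfsg.Agent.SmallSimple.LocalData
import Cfsg.Agent.SmallSimple.CentralizerFix
import Cfsg.Agent.Lib.SimpleByPrime
import Cfsg.Agent.CharactersDeep.ModCongr

/-!
# Tools for Sylow subgroups of prime order in simple groups of given order

* `blockData`: Brauer's theorem for the principal block when `|P| = p` (any centraliser), with the
  congruences for degrees and for the values at involutions centralising `P`;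
* `card_fixedBy_dvd`: an element `x` of prime order `q ∤ p (p - 1)` centralising `P` normalises
  exactly `|Syl_p (C(x))|` Sylow `p`-subgroups, in particular that number divides `|G|`.
-/

set_option autoImplicit false
set_option linter.unusedSectionVars false

namespace Cfsg.Agent.M23.SylowTools

open Cfsg Subgroup MulAction
open Cfsg.Agent.Characters.Core
open Cfsg.Agent.SmallSimple

universe u

variable {G : Type u} [Group G]

/-- **F4.** If `χ` takes the same value at `x s` and at `x` (`1 ≠ x ∈ P`), then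
`χ(s) ≡ χ(1) mod p` when both values are integers. -/
theorem dvd_sub_of_mul_eq [Finite G] {p : ℕ} [hp : Fact p.Prime] {M : Ideal AlgInt}
    (hM : IsPModular p M) {P : Subgroup G} (hP : Nat.card P = p) {χ : G → ℂ}
    (hχ : IsIrrCharacter G χ) {s : G} (hs : s ∈ centralizer (P : Set G)) (hsp : ¬ p ∣ orderOf s)
    (h : ∀ x ∈ P, x ≠ 1 → χ (x * s) = χ x) {n z : ℤ} (hn : χ 1 = n) (hz : χ s = z) :
    (p : ℤ) ∣ n - z := by
  have hnt : Nontrivial P := by
    rw [← Finite.one_lt_card_iff_nontrivial, hP]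
    exact hp.out.one_lt
  obtain ⟨⟨x, hx⟩, hx1⟩ := exists_ne (1 : P)
  have hx1' : x ≠ 1 := fun h => hx1 (Subtype.ext h)
  have hox : orderOf x = p := by
    have h1 : orderOf x ∣ p := by
      have := orderOf_dvd_natCard (⟨x, hx⟩ : P)
      rw [hP] at this
      simpa using this
    rcases (Nat.dvd_prime hp.out).1 h1 with h | h
    · exact absurd (orderOf_eq_one_iff.1 h) hx1'
    · exact h
  have hcomm : Commute x s := mem_centralizer_iff.1 hs x hx
  have h1 := Cfsg.Agent.CharactersDeep.ModCongr.memLocalIdeal_character_sub hM hχ (x * s) x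
    ⟨s, rfl, hcomm, ⟨1, by rw [hox, pow_one]⟩, hsp⟩
  have h2 := Cfsg.Agent.CharactersDeep.ModCongr.memLocalIdeal_character_sub hM hχ x x
    ⟨1, mul_one x, Commute.one_right x, ⟨1, by rw [hox, pow_one]⟩, by
      rw [orderOf_one]; exact fun h => hp.out.one_lt.ne' (Nat.dvd_one.1 h)⟩
  rw [inv_mul_cancel_left, h x hx hx1', hz] at h1
  rw [inv_mul_cancel, hn] at h2
  have hprime : M.IsPrime := hM.2.1.isPrime
  have h3 := Blocks.Local.memLocalIdeal_sub h1 h2
  have h4 : χ x - (z : ℂ) - (χ x - (n : ℂ)) = ((n - z : ℤ) : ℂ) := by push_cast; ring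
  rw [h4] at h3
  exact (Blocks.Local.memLocalIdeal_intCast_iff hM _).1 h3

/-- Brauer's theorem for the principal block of a simple group with `|P| = p`, with the
congruences for degrees and involutions centralising `P`. -/
theorem blockData [Finite G] [IsSimpleGroup G] (hG : commutator G = ⊤) (p : ℕ) [hp : Fact p.Prime]
    (hp2 : p ≠ 2) (P : Sylow p G) (hP : Nat.card P = p) (e t : ℕ)
    (he : (centralizer (P : Set G)).relIndex (normalizer (P : Set G)) = e) (ht : e * t = p - 1) :
    ∃ (NE X : Finset (IrrCharacter G)) (ε : IrrCharacter G → ℤ) (d : ℤ),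
      Disjoint NE X ∧ NE.card = e ∧ X.card = t ∧
      (∀ χ ∈ NE, ε χ = 1 ∨ ε χ = -1) ∧ (d = 1 ∨ d = -1) ∧
      (∃ χ₁ ∈ NE, (χ₁ : G → ℂ) = 1 ∧ ε χ₁ = 1) ∧
      (∀ χ ∈ NE, (p : ℤ) ∣ charDegree (χ : G → ℂ) - ε χ) ∧
      (∀ Θ ∈ X, (p : ℤ) ∣ charDegree (Θ : G → ℂ) - d * e) ∧
      (∀ Θ ∈ X, ∀ g : G, ¬ p ∣ orderOf g →
        ∑ χ ∈ NE, (ε χ : ℂ) * (χ : G → ℂ) g = d * (Θ : G → ℂ) g) ∧
      (∀ χ : IrrCharacter G, (χ ∈ NE ∨ χ ∈ X) → (χ : G → ℂ) ≠ 1 →
        ∀ s ∈ centralizer (P : Set G), s ^ 2 = 1 → s ≠ 1 →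
        ∃ z : ℤ, (χ : G → ℂ) s = z ∧ |z| < charDegree (χ : G → ℂ) ∧
          (4 * p : ℤ) ∣ charDegree (χ : G → ℂ) - z ∧
          (charDegree (χ : G → ℂ) : ℤ) ∣ ((centralizer ({s} : Set G)).index : ℤ) * z) := by
  classical
  obtain ⟨M, hM⟩ := Blocks.ExistsModular.exists_isPModular hp.out
  obtain ⟨NE, X, ε, d, S, hB, h1, h2, h3, h4, h5, h6, h7, h8, h9, h10⟩ :=
    TheoremB.theoremB p hp2 M hM P hP e t he ht
  have hone : ¬ p ∣ orderOf (1 : G) := by
    rw [orderOf_one]; exact fun h => hp.out.one_lt.ne' (Nat.dvd_one.1 h)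
  have hprime : M.IsPrime := hM.2.1.isPrime
  refine ⟨NE, X, ε, d, h1, h2, h3, h4, h5, h6, ?_, ?_, h10, ?_⟩
  · intro χ hχ
    have hv : ∀ x ∈ (P : Subgroup G), x ≠ 1 → (χ : G → ℂ) x = ε χ := by
      intro x hx hx1
      have := h7 χ hχ x hx hx1 1 (one_mem _) hone
      rwa [mul_one] at this
    obtain ⟨m, hm⟩ := TheoremBCor.degree_nonexc (p := p) hP (isIrr_isCharacter χ.2) hv
    rw [Blocks.Basic.irr_one_eq_charDegree χ.2] at hm
    refine ⟨(m : ℤ) - ε χ, ?_⟩
    have : ((charDegree (χ : G → ℂ) : ℤ) : ℂ) = ((ε χ + p * ((m : ℤ) - ε χ) : ℤ) : ℂ) := by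
      push_cast; exact hm
    have := Int.cast_injective this
    rw [this]; ring
  · intro Θ hΘ
    obtain ⟨hc, h1S, hv⟩ := h8 Θ hΘ
    have hv' : ∀ x : P, x ≠ 1 → (Θ : G → ℂ) x = d * ∑ l ∈ S Θ, ((l x : ℂˣ) : ℂ) := by
      intro x hx1
      have := hv x hx1 1 (one_mem _) hone
      rwa [mul_one] at this
    obtain ⟨m, hm⟩ := TheoremBCor.degree_exc (p := p) hP (isIrr_isCharacter Θ.2) h1S hv'
    rw [Blocks.Basic.irr_one_eq_charDegree Θ.2, hc] at hm
    refine ⟨m, ?_⟩
    have : ((charDegree (Θ : G → ℂ) : ℤ) : ℂ) = ((d * e + p * m : ℤ) : ℂ) := by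
      push_cast; exact hm
    have := Int.cast_injective this
    rw [this]; ring
  · intro χ hχ hχ1 s hs hs2 hs1
    obtain ⟨z, hz, hlt, h4z⟩ := InvolColumn.exists_int hG χ.2 hχ1 hs2 hs1
    have hos : ¬ p ∣ orderOf s := by
      intro hd
      have h11 : orderOf s ∣ 2 := orderOf_dvd_of_pow_eq_one hs2
      exact hp2 ((Nat.prime_dvd_prime_iff_eq hp.out Nat.prime_two).1 (hd.trans h11))
    have hmul : ∀ x ∈ (P : Subgroup G), x ≠ 1 → (χ : G → ℂ) (x * s) = (χ : G → ℂ) x := by
      intro x hx hx1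
      rcases hχ with hχ | hχ
      · have h11 := h7 χ hχ x hx hx1 1 (one_mem _) hone
        rw [mul_one] at h11
        rw [h11, h7 χ hχ x hx hx1 s hs hos]
      · have h11 := (h8 χ hχ).2.2 ⟨x, hx⟩ (fun h => hx1 (congrArg Subtype.val h)) 1
          (one_mem _) hone
        rw [mul_one] at h11
        rw [(h8 χ hχ).2.2 ⟨x, hx⟩ (fun h => hx1 (congrArg Subtype.val h)) s hs hos]
        exact h11.symm
    have hpz := dvd_sub_of_mul_eq hM (P := (P : Subgroup G)) hP χ.2 hs hos hmul
      (n := (charDegree (χ : G → ℂ) : ℤ)) (z := z)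
      (by rw [Blocks.Basic.irr_one_eq_charDegree χ.2]; push_cast; rfl) hz
    refine ⟨z, hz, hlt, ?_, InvolColumn.dvd_index_mul χ.2 hz⟩
    refine IsCoprime.mul_dvd ?_ h4z hpz
    have h11 : Nat.Coprime 4 p := by
      rw [show 4 = 2 ^ 2 from rfl]
      exact Nat.Coprime.pow_left 2 ((Nat.coprime_primes Nat.prime_two hp.out).2 (Ne.symm hp2))
    exact_mod_cast h11.isCoprime

/-- An element of prime order `q ∤ p - 1` normalising a subgroup of order `p` centralises it. -/
theorem mem_centralizer_of_mem_normalizer [Finite G] {p q : ℕ} (hp : p.Prime) (hq : q.Prime)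
    {P : Subgroup G} (hP : Nat.card P = p) {x : G} (hx : x ∈ normalizer (P : Set G))
    (hxq : x ^ q = 1) (hqp : ¬ q ∣ p - 1) : x ∈ centralizer (P : Set G) := by
  have := Fact.mk hp
  have hcyc : IsCyclic P := isCyclic_of_prime_card hP
  have h1 : P.normalizerMonoidHom ⟨x, hx⟩ = 1 := by
    rw [← orderOf_eq_one_iff]
    have h2 : orderOf (P.normalizerMonoidHom ⟨x, hx⟩) ∣ q := by
      apply orderOf_dvd_of_pow_eq_one
      rw [← map_pow]
      have : (⟨x, hx⟩ : normalizer (P : Set G)) ^ q = 1 := Subtype.ext hxq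
      rw [this, map_one]
    have h3 : orderOf (P.normalizerMonoidHom ⟨x, hx⟩) ∣ p - 1 := by
      have := orderOf_dvd_natCard (P.normalizerMonoidHom ⟨x, hx⟩)
      rwa [hcyc.card_mulAut, hP, Nat.totient_prime hp] at this
    rcases (Nat.dvd_prime hq).1 h2 with h | h
    · exact h
    · rw [h] at h3
      exact absurd h3 hqp
  have h2 : (⟨x, hx⟩ : normalizer (P : Set G)) ∈ P.normalizerMonoidHom.ker := h1
  rw [normalizerMonoidHom_ker] at h2
  exact h2

/-- An element `x` of prime order `q ∤ p (p - 1)` centralising `P` normalises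
`|Syl_p (C(x))|` Sylow `p`-subgroups; in particular that number divides `|C(x)|`. -/
theorem card_fixedBy_dvd_centralizer [Finite G] {p q : ℕ} [hp : Fact p.Prime] (hq : q.Prime)
    (P : Sylow p G) (hP : Nat.card P = p) {x : G} (hx : x ∈ centralizer (P : Set G))
    (hxq : x ^ q = 1) (hqp : ¬ q ∣ p - 1) :
    Nat.card (fixedBy (Sylow p G) x) ∣ Nat.card (centralizer ({x} : Set G)) := by
  have hcardS : ∀ Q : Sylow p G, Nat.card (Q : Subgroup G) = p := fun Q =>
    (Nat.card_congr (Sylow.equiv Q P).toEquiv).trans hP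
  have hPx : (P : Subgroup G) ≤ centralizer {x} := by
    intro u hu
    rw [mem_centralizer_singleton_iff]
    exact mem_centralizer_iff.1 hx u hu
  have horb : orbit (centralizer {x}) P = fixedBy (Sylow p G) x := by
    ext Q
    constructor
    · rintro ⟨c, rfl⟩
      rw [mem_fixedBy]
      have h1 : x • P = P := by
        rw [Sylow.smul_eq_iff_mem_normalizer]
        exact SylowPrimeCount.centralizer_le_normalizer' _ hx
      have h2 : (c : G) * x = x * c := mem_centralizer_singleton_iff.1 c.2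
      change x • (c : G) • P = (c : G) • P
      rw [smul_smul, ← h2, mul_smul, h1]
    · intro hQ
      rw [mem_fixedBy, Sylow.smul_eq_iff_mem_normalizer] at hQ
      have h1 := mem_centralizer_of_mem_normalizer hp.out hq (hcardS Q) hQ hxq hqp
      have hQx : (Q : Subgroup G) ≤ centralizer {x} := by
        intro u hu
        rw [mem_centralizer_singleton_iff]
        exact mem_centralizer_iff.1 h1 u hu
      obtain ⟨c, hc⟩ := MulAction.exists_smul_eq (centralizer {x}) (P.subtype hPx) (Q.subtype hQx)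
      rw [Sylow.smul_subtype] at hc
      exact ⟨c, Sylow.subtype_injective hc⟩
  rw [← horb]
  have h2 : Nat.card (orbit (centralizer {x}) P) * Nat.card (stabilizer (centralizer {x}) P) =
      Nat.card (centralizer {x}) := by
    rw [← Nat.card_prod]
    exact Nat.card_congr (orbitProdStabilizerEquivGroup (centralizer {x}) P)
  exact Dvd.intro _ h2

/-- The number of Sylow `p`-subgroups fixed by an element `x` of prime order `q ∤ p (p - 1)`
centralising `P` divides `|G|`. -/
theorem card_fixedBy_dvd [Finite G] {p q : ℕ} [hp : Fact p.Prime] (hq : q.Prime)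
    (P : Sylow p G) (hP : Nat.card P = p) {x : G} (hx : x ∈ centralizer (P : Set G))
    (hxq : x ^ q = 1) (hqp : ¬ q ∣ p - 1) :
    Nat.card (fixedBy (Sylow p G) x) ∣ Nat.card G :=
  (card_fixedBy_dvd_centralizer hq P hP hx hxq hqp).trans (card_subgroup_dvd_card _)

end Cfsg.Agent.M23.SylowTools
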