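import Cfsg.Agent.M23.ElevenCommon
import Cfsg.Agent.M23.SylowTools
import Cfsg.Agent.SmallSimple.FixCount

/-!
# Sylow 11-subgroups in a simple group of order `10200960`: `7 ∤ |C(P₁₁)|`
-/

set_option autoImplicit false
set_option linter.unusedSectionVars false

namespace Cfsg.Agent.M23.ElevenSeven

open Cfsg Subgroup MulAction Cfsg.Agent.Characters.Core
open Cfsg.Agent.SmallSimple Cfsg.Agent.SmallSimple.PrimeLocal
open Cfsg.Agent.SmallSimple.LocalData Cfsg.Agent.M22.NonSelfCent
open Cfsg.Agent.M23.Block Cfsg.Agent.M23.Adm Cfsg.Agent.M23.ElevenCommon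

universe u

theorem cand : candList 10200960 11 =
    [(276, 2, 1680), (276, 5, 672), (276, 10, 336), (320, 2, 1449), (672, 2, 690),
      (672, 5, 276), (672, 10, 138), (1035, 2, 448), (1288, 2, 360), (1288, 5, 144),
      (1288, 10, 72), (2520, 2, 184), (3312, 2, 140), (3312, 5, 56), (3312, 10, 28),
      (4830, 2, 96), (7360, 2, 63), (8064, 5, 23), (15456, 2, 30), (15456, 5, 12),
      (15456, 10, 6), (57960, 2, 8), (185472, 5, 1)] := by
  decide +kernel

variable {G : Type u} [Group G] [Finite G] [IsSimpleGroup G]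

/-- The local data of a Sylow 11-subgroup is in the list. -/
theorem mem_cand (hcard : Nat.card G = 10200960) {P : Sylow 11 G} {e : ℕ} {K : Subgroup G}
    (h : IsLocal 11 P e K) :
    (Nat.card (Sylow 11 G), e, Nat.card K) ∈ candList 10200960 11 := by
  obtain ⟨e', k', hD, hmem⟩ := exists_data (Sylow23.not_comm hcard) (p := 11) (by norm_num)
    (by norm_num) (by rw [hcard]; norm_num) (by rw [hcard]; norm_num)
  have h1 := hD.card_centralizer P
  rw [h.card_centralizer] at h1
  have h2 := hD.card_normalizer P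
  rw [h.card_normalizer] at h2
  have h3 : Nat.card K = k' := by omega
  subst h3
  have h4 : e = e' := by
    have h5 : 0 < Nat.card K := Nat.card_pos
    have h6 : 11 * Nat.card K * e = 11 * Nat.card K * e' := by linarith
    exact Nat.eq_of_mul_eq_mul_left (by omega) h6
  subst h4
  rwa [hcard] at hmem

/-- `|Syl₁₁(G)|` and the rest of the data when `7` divides `|K|`. -/
theorem seven_cases (hcard : Nat.card G = 10200960) {P : Sylow 11 G} {e : ℕ} {K : Subgroup G}
    (h : IsLocal 11 P e K) (h7 : 7 ∣ Nat.card K) :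
    Nat.card (Sylow 11 G) = 276 ∨ Nat.card (Sylow 11 G) = 1035 ∨
      Nat.card (Sylow 11 G) = 3312 ∨ Nat.card (Sylow 11 G) = 7360 := by
  have h1 := mem_cand hcard h
  rw [cand] at h1
  have h23 := not_dvd_card_K hcard h
  simp only [List.mem_cons, Prod.mk.injEq, List.not_mem_nil, or_false] at h1
  omega

/-! ### The principal 7-block -/

theorem l7_arith' : ∀ n ∈ List.range 3195, 2 ≤ n → 10200960 % n = 0 → ¬ n % 11 = 0 →
    (n % 23 = 0 ∨ n % 23 = 1 ∨ n % 23 = 22 ∨ n % 23 = 11 ∨ n % 23 = 12) →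
    (n % 7 = 1 → 10200960 % (n + 1) = 0 →
      ((n + 1) % 23 = 0 ∨ (n + 1) % 23 = 1 ∨ (n + 1) % 23 = 22 ∨ (n + 1) % 23 = 11 ∨
        (n + 1) % 23 = 12) → False) ∧
    (n % 7 = 6 → 10200960 % (n - 1) = 0 →
      ((n - 1) % 23 = 0 ∨ (n - 1) % 23 = 1 ∨ (n - 1) % 23 = 22 ∨ (n - 1) % 23 = 11 ∨
        (n - 1) % 23 = 12) → False) := by
  decide +kernel

/-- If `11` divides `|C(P₇)|` then `|N(P₇) : C(P₇)| ≠ 2`. -/
theorem two_false (hcard : Nat.card G = 10200960) {P : Sylow 7 G} {K : Subgroup G}
    (h : IsLocal 7 P 2 K) (h11 : 11 ∣ Nat.card K) : False := by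
  classical
  have hp : Fact (Nat.Prime 7) := ⟨by norm_num⟩
  have hp11 : Fact (Nat.Prime 11) := ⟨by norm_num⟩
  have hK1 : Nat.card K ≠ 1 := by rintro h1; rw [h1] at h11; norm_num at h11
  have hP : Nat.card P = 7 := card_of_not_sq_dvd (by rw [hcard]; norm_num)
    (by rw [hcard]; norm_num) P
  obtain ⟨M, NE, X, ε, d, S, B⟩ := exists_blk_of_local hcard (by norm_num) hP h
    (t := 3) (by norm_num)
  let P23 : Sylow 23 G := default
  obtain ⟨⟨k, hk⟩, hok⟩ := exists_prime_orderOf_dvd_card' 11 h11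
  have hok' : orderOf k = 11 := by rwa [← Subgroup.orderOf_coe] at hok
  have hn11 : ∀ χ : IrrCharacter G, χ ∈ NE ∨ χ ∈ X → ¬ 11 ∣ charDegree (χ : G → ℂ) :=
    fun χ hχ => by
      have := B.not_dvd hP (r := 11) (a := 1) (by norm_num) (by norm_num)
        (by rw [hcard]; norm_num) (by rw [hcard]; norm_num) (h.le_centralizer hk) hok' hχ
      rwa [pow_one] at this
  obtain ⟨Θ, hΘ⟩ : ∃ Θ, Θ ∈ X := by
    apply Finset.card_pos.1
    rw [B.kb.card_X]; norm_num
  obtain ⟨χ, hχ⟩ : ∃ χ, NE.erase ⟨1, isIrr_one⟩ = {χ} := by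
    apply Finset.card_eq_one.1
    rw [Finset.card_erase_of_mem B.kb.one_mem, B.kb.card_NE]
  have hχm : χ ∈ NE.erase ⟨1, isIrr_one⟩ := by rw [hχ]; exact Finset.mem_singleton_self _
  have hχN := Finset.mem_of_mem_erase hχm
  have hχ1 := Finset.ne_of_mem_erase hχm
  have hrel := B.kb.rel_one Θ hΘ
  have hdeg1 : charDegree ((⟨1, isIrr_one⟩ : IrrCharacter G) : G → ℂ) = 1 := by
    have h1 := Blocks.Basic.irr_one_eq_charDegree (isIrr_one (G := G))
    have h2 : ((charDegree (1 : G → ℂ) : ℕ) : ℂ) = ((1 : ℕ) : ℂ) := by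
      rw [← h1]; simp
    exact_mod_cast h2
  rw [← Finset.add_sum_erase _ _ B.kb.one_mem, hχ, Finset.sum_singleton, B.kb.eps_one,
    hdeg1] at hrel
  have hcop : Nat.Coprime 7 (Nat.card K) :=
    (Nat.Prime.coprime_iff_not_dvd (by norm_num)).2 h.not_dvd
  obtain ⟨a, ha, hdeg, -⟩ := B.kb.ne_data K h.le_centralizer hcop (K_ne_bot hK1) χ hχN hχ1
  obtain ⟨s, -, hs⟩ := adm hcard P23 χ
  obtain ⟨s', -, hs'⟩ := adm hcard P23 Θ
  have hd1 := charDegree_dvd hcard χ
  have hd2 := charDegree_dvd hcard Θ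
  have hl1 := charDegree_lt hcard χ
  have h11' := hn11 χ (Or.inl hχN)
  have hdd := B.kb.hd
  generalize charDegree (χ : G → ℂ) = n at *
  generalize charDegree (Θ : G → ℂ) = f at *
  unfold AdmAt at hs hs'
  have key := l7_arith' n (List.mem_range.2 hl1) (by omega) (Nat.mod_eq_zero_of_dvd hd1)
    (fun h' => h11' (Nat.dvd_of_mod_eq_zero h')) (by omega)
  rcases hdeg with ⟨h1, h2⟩ | ⟨h1, h2⟩
  · rw [h1] at hrel
    have hf : f = n + 1 := by rcases hdd with rfl | rfl <;> push_cast at hrel <;> omega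
    subst hf
    exact key.1 (by omega) (Nat.mod_eq_zero_of_dvd hd2) (by omega)
  · rw [h1] at hrel
    have hf : f = n - 1 := by rcases hdd with rfl | rfl <;> push_cast at hrel <;> omega
    subst hf
    exact key.2 (by omega) (Nat.mod_eq_zero_of_dvd hd2) (by omega)

/-! ### Fixed points of the element of order seven -/

theorem fix_arith' : ∀ j ∈ List.range 670, 443520 % (1 + 11 * j) = 0 →
    ((1 + 11 * j) % 7 = 3 → j = 4) ∧
    ((1 + 11 * j) % 7 = 6 → 94 ≤ j) ∧
    ((1 + 11 * j) % 7 = 1 → j = 0 ∨ 301 ≤ j) := by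
  decide +kernel

theorem fix_arith {m n : ℕ} (hmn : m < n) (hm : m ∣ 10200960) (h23 : ¬ 23 ∣ m)
    (h11 : m % 11 = 1) (h7 : m % 7 = n % 7) (hn : n = 276 ∨ n = 1035 ∨ n = 3312 ∨ n = 7360) :
    m = 45 ∨ (m = 1 ∧ n = 3312) := by
  obtain ⟨j, rfl⟩ : ∃ j, m = 1 + 11 * j := ⟨m / 11, by omega⟩
  have h1 : 1 + 11 * j ∣ 443520 := by
    have h2 : Nat.Coprime (1 + 11 * j) 23 :=
      ((Nat.Prime.coprime_iff_not_dvd (by norm_num)).2 h23).symm
    have h3 : 1 + 11 * j ∣ 23 * 443520 := by norm_num; exact hm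
    exact h2.dvd_of_dvd_mul_left h3
  have key := fix_arith' j (List.mem_range.2 (by omega)) (Nat.mod_eq_zero_of_dvd h1)
  omega

/-- `7` does not divide the order of the complement of `P₁₁` in its centraliser. -/
theorem not_seven_dvd (hcard : Nat.card G = 10200960) {P : Sylow 11 G} {e : ℕ} {K : Subgroup G}
    (h : IsLocal 11 P e K) : ¬ 7 ∣ Nat.card K := by
  intro h7
  have hp11 : Fact (Nat.Prime 11) := ⟨by norm_num⟩
  have hp7 : Fact (Nat.Prime 7) := ⟨by norm_num⟩
  have hn := seven_cases hcard h h7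
  have hP : Nat.card P = 11 := card_of_not_sq_dvd (by rw [hcard]; norm_num)
    (by rw [hcard]; norm_num) P
  obtain ⟨⟨x, hx⟩, hox⟩ := exists_prime_orderOf_dvd_card' 7 h7
  have hox' : orderOf x = 7 := by rwa [← Subgroup.orderOf_coe] at hox
  have hx7 : x ^ 7 = 1 := by rw [← hox']; exact pow_orderOf_eq_one x
  have hx1 : x ≠ 1 := by
    rintro rfl
    rw [orderOf_one] at hox'
    omega
  have hxC := h.le_centralizer hx
  have h1 := SylowTools.card_fixedBy_dvd_centralizer (by norm_num : Nat.Prime 7) P hP hxC hx7 (by norm_num)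
  have h2 := CentralizerFix.card_fixedBy_modEq_one P hxC
  have h3 := CentralizerFix.card_fixedBy_lt (p := 11) (by omega) hx1
  have h4 := FixCount.card_fixedBy_modEq (X := Sylow 11 G) (q := 7) hx7
  have h23 := not_dvd_centralizer hcard hx1 (by rw [hox']; norm_num)
  have h5 := fix_arith h3 (by rw [← hcard]; exact h1.trans (card_subgroup_dvd_card _))
    (fun h' => h23 (h'.trans h1)) h2 h4.symm hn
  -- the Sylow 7-subgroup
  obtain ⟨R, hR⟩ := exists_sylow_eq (G := G) (q := 7) (by norm_num) (by rw [hcard]; norm_num)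
    (zpowers x) (by rw [Nat.card_zpowers, hox'])
  obtain ⟨e7, K7, hl⟩ := exists_local (Sylow23.not_comm hcard) (p := 7)
    (by rw [hcard]; norm_num) (by rw [hcard]; norm_num) R
  have hCR : centralizer (R : Set G) = centralizer {x} := by
    change centralizer ((R : Subgroup G) : Set G) = _
    rw [hR]
    ext g
    rw [mem_centralizer_singleton_iff, mem_centralizer_iff]
    constructor
    · intro hg
      exact (hg x (mem_zpowers x)).symm
    · intro hg y hy
      obtain ⟨i, rfl⟩ := mem_zpowers_iff.1 hy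
      exact ((show Commute x g from hg.symm).zpow_left i).eq
  have hcK7 := hl.card_centralizer
  rw [hCR] at hcK7
  have he6 := hl.dvd_pred
  have he1 := hl.one_lt
  have hPx : (P : Subgroup G) ≤ centralizer {x} := by
    intro u hu
    rw [mem_centralizer_singleton_iff]
    exact mem_centralizer_iff.1 hxC u hu
  have h11 : 11 ∣ Nat.card K7 := by
    have h6 : 11 ∣ Nat.card (centralizer ({x} : Set G)) := by
      have h7 := Subgroup.card_dvd_of_le hPx
      have h8 : Nat.card (P : Subgroup G) = 11 := hP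
      rwa [h8] at h7
    rw [hcK7] at h6
    exact (Nat.Prime.dvd_mul (by norm_num)).1 h6 |>.resolve_left (by norm_num)
  have hcN := hl.card_normalizer
  -- `3 ∤ e7`
  have h3e : ¬ 3 ∣ e7 := by
    intro h3e
    rcases h5 with h5 | ⟨h5, hn'⟩
    · rw [h5] at h1
      have h6 : 9 ∣ 7 * Nat.card K7 := by
        rw [← hcK7]
        exact Dvd.dvd.trans (by norm_num) h1
      have h7 : 9 ∣ Nat.card K7 := (Nat.Coprime.dvd_of_dvd_mul_left (by norm_num) h6)
      have h8 : 27 ∣ Nat.card (normalizer (R : Set G)) := by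
        rw [hcN]
        obtain ⟨u, hu⟩ := h3e
        obtain ⟨v, hv⟩ := h7
        exact ⟨7 * u * v, by rw [hu, hv]; ring⟩
      have h9 := h8.trans (card_subgroup_dvd_card _)
      rw [hcard] at h9
      revert h9
      norm_num
    · -- `N(⟨x⟩) ≤ N(P)`
      have hfix : ∀ Q : Sylow 11 G, x • Q = Q → Q = P := by
        intro Q hQ
        have hPf : x • P = P := by
          rw [Sylow.smul_eq_iff_mem_normalizer]
          exact SylowPrimeCount.centralizer_le_normalizer' _ hxC
        obtain ⟨hss, -⟩ := Nat.card_eq_one_iff_unique.1 h5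
        have := @Subsingleton.elim _ hss ⟨Q, hQ⟩ ⟨P, hPf⟩
        exact congrArg Subtype.val this
      have hle : normalizer (R : Set G) ≤ normalizer (P : Set G) := by
        intro g hg
        rw [← Sylow.smul_eq_iff_mem_normalizer]
        apply hfix
        have hgx : g⁻¹ * x * g ∈ zpowers x := by
          have h6 := (mem_normalizer_iff.1 (inv_mem hg) x).1 (by rw [hR]; exact mem_zpowers x)
          rw [inv_inv] at h6
          rw [← hR]
          exact h6
        have hPf : x • P = P := by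
          rw [Sylow.smul_eq_iff_mem_normalizer]
          exact SylowPrimeCount.centralizer_le_normalizer' _ hxC
        have h7 : (g⁻¹ * x * g) • P = P := by
          have h8 : zpowers x ≤ stabilizer G P := by
            rw [zpowers_le]; exact hPf
          exact h8 hgx
        have h8 : x * g = g * (g⁻¹ * x * g) := by group
        rw [smul_smul, h8, mul_smul, h7]
      have h6 := Subgroup.card_dvd_of_le hle
      rw [hcN] at h6
      have h7 : 3 ∣ Nat.card (normalizer (P : Set G)) :=
        ((h3e.mul_left 7).mul_right _).trans h6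
      have h8 := P.card_eq_index_normalizer
      rw [hn'] at h8
      have h9 := card_mul_index (normalizer (P : Set G))
      rw [← h8, hcard] at h9
      omega
  have he7 : e7 = 2 := by
    have : e7 ≤ 6 := Nat.le_of_dvd (by norm_num) he6
    interval_cases e7
    · rfl
    · omega
    · omega
    · omega
    · omega
  subst he7
  exact two_false hcard hl h11

end Cfsg.Agent.M23.ElevenSeven
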