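import Cfsg.Agent.M23.ElevenCommon

/-!
# Sylow 11-subgroups in a simple group of order `10200960`: `e = 10`
-/

set_option autoImplicit false
set_option linter.unusedSectionVars false

namespace Cfsg.Agent.M23.ElevenTen

open Cfsg Subgroup Cfsg.Agent.Characters.Core
open Cfsg.Agent.SmallSimple Cfsg.Agent.SmallSimple.PrimeLocal Cfsg.Agent.M22.NonSelfCent
open Cfsg.Agent.M23.Block Cfsg.Agent.M23.Adm Cfsg.Agent.M23.ElevenCommon

universe u

theorem arith' : ∀ n ∈ List.range 3195, 23 ≤ n → 10200960 % n = 0 → (n % 11 = 1 ∨ n % 11 = 10) →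
    (n % 23 = 0 ∨ n % 23 = 1 ∨ n % 23 = 22 ∨ n % 23 = 11 ∨ n % 23 = 12) → ¬ n % 9 = 0 →
    n % 23 = 0 := by
  decide +kernel

theorem arith {n : ℕ} {s : ℤ} (hn : n < 3195) (h23 : 23 ≤ n) (hd : n ∣ 10200960)
    (h11 : n % 11 = 1 ∨ n % 11 = 10) (h : AdmAt n s) (h9 : ¬ 9 ∣ n) : s = 0 := by
  unfold AdmAt at h
  have := arith' n (List.mem_range.2 hn) h23 (Nat.mod_eq_zero_of_dvd hd) h11 (by omega)
    (fun h' => h9 (Nat.dvd_of_mod_eq_zero h'))
  omega

variable {G : Type u} [Group G] [Finite G] [IsSimpleGroup G]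

theorem card_eleven (hcard : Nat.card G = 10200960) (P : Sylow 11 G) : Nat.card P = 11 := by
  have hp : Fact (Nat.Prime 11) := ⟨by norm_num⟩
  exact card_of_not_sq_dvd (by rw [hcard]; norm_num) (by rw [hcard]; norm_num) P

theorem ten_false (hcard : Nat.card G = 10200960) {P : Sylow 11 G} {K : Subgroup G}
    (h : IsLocal 11 P 10 K) (h3 : 3 ∣ Nat.card K) : False := by
  classical
  have hp : Fact (Nat.Prime 11) := ⟨by norm_num⟩
  have hp3 : Fact (Nat.Prime 3) := ⟨by norm_num⟩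
  have hK1 : Nat.card K ≠ 1 := by rintro h1; rw [h1] at h3; norm_num at h3
  have hP := card_eleven hcard P
  obtain ⟨M, NE, X, ε, d, S, B⟩ := exists_blk_of_local hcard (by norm_num) hP h
    (t := 1) (by norm_num)
  let P23 : Sylow 23 G := default
  obtain ⟨⟨k, hk⟩, hok⟩ := exists_prime_orderOf_dvd_card' 3 h3
  have hok' : orderOf k = 3 := by rwa [← Subgroup.orderOf_coe] at hok
  have h9 : ∀ χ : IrrCharacter G, χ ∈ NE ∨ χ ∈ X → ¬ 9 ∣ charDegree (χ : G → ℂ) := fun χ hχ =>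
    B.not_dvd hP (r := 3) (a := 2) (by norm_num) (by norm_num) (by rw [hcard]; norm_num)
      (by rw [hcard]; norm_num) (h.le_centralizer hk) hok' hχ
  choose v hv1 hv2 using fun χ : IrrCharacter G => adm hcard P23 χ
  obtain ⟨Θ, hΘ⟩ : ∃ Θ, Θ ∈ X := by
    apply Finset.card_pos.1
    rw [B.kb.card_X]; norm_num
  have hrel := sum_V_eq hcard P23 B hΘ (v := v) hv1
  have hvΘ : v Θ = 0 := by
    obtain ⟨s, a, hs1, hs2, hs3, hs4, hs5, hs6, -⟩ := x_facts hcard P23 h hK1 B hΘ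
    exact arith hs4 (by omega) hs3 (by omega) (hv2 Θ) (h9 Θ (Or.inr hΘ))
  have hvNE : ∀ χ ∈ NE.erase ⟨1, isIrr_one⟩, ε χ * v χ = 0 := by
    intro χ hχ
    have hχN := Finset.mem_of_mem_erase hχ
    obtain ⟨s, a, hs1, hs2, hs3, hs4, hs5, hs6, -⟩ := ne_facts hcard P23 h hK1 B hχN
      (Finset.ne_of_mem_erase hχ)
    rw [arith hs4 (by omega) hs3 (by omega) (hv2 χ) (h9 χ (Or.inl hχN)), mul_zero]
  have hv22 : v ⟨1, isIrr_one⟩ = 22 := by
    have := (hv1 ⟨1, isIrr_one⟩).symm.trans (v_one hcard P23)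
    exact_mod_cast this
  rw [← Finset.add_sum_erase _ _ B.kb.one_mem, Finset.sum_eq_zero hvNE, B.kb.eps_one, hvΘ,
    hv22] at hrel
  norm_num at hrel

end Cfsg.Agent.M23.ElevenTen
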