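import Cfsg.Agent.SmallSimple.SylowMaxInter
import Cfsg.Agent.SmallSimple.RelSylow

/-!
# A contradiction from a normal subgroup of order 8 of a Sylow normalizer

Used for the Sylow 11-subgroups in a simple group of order `10200960`.
-/

set_option autoImplicit false

namespace Cfsg.Agent.M23.TwoGroup

open Subgroup Cfsg.Agent.SmallSimple

variable {G : Type*} [Group G] [Finite G]

theorem mem_normalizer_of_conj_mem (P : Subgroup G) {g : G}
    (h : ∀ x ∈ P, g * x * g⁻¹ ∈ P) : g ∈ normalizer (P : Set G) := by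
  have h1 : P.map (MulAut.conj g).toMonoidHom = P := by
    apply Subgroup.eq_of_le_of_card_ge
    · rintro _ ⟨x, hx, rfl⟩
      exact h x hx
    · rw [Subgroup.card_map_of_injective (MulAut.conj g).injective]
  rw [mem_normalizer_iff]
  intro x
  refine ⟨fun hx => h x hx, fun hx => ?_⟩
  have hx' : g * x * g⁻¹ ∈ P := hx
  rw [← h1] at hx'
  obtain ⟨y, hy, hyx⟩ := hx'
  have h2 : g * y * g⁻¹ = g * x * g⁻¹ := hyx
  have h3 : y = x := mul_left_cancel (mul_right_cancel h2)
  rw [← h3]
  exact hy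

theorem false_of_centralizer_le (P : Sylow 11 G) (K : Subgroup G)
    (h128 : 128 ∣ Nat.card G) (hK : Nat.card K = 8)
    (hN : Nat.card (normalizer ((P : Subgroup G) : Set G)) = 11 * 2 * 8)
    (hKC : K ≤ centralizer ((P : Subgroup G) : Set G))
    (_hnorm : normalizer ((P : Subgroup G) : Set G) ≤ normalizer (K : Set G))
    (hinv : ∀ t ∈ K, t ^ 2 = 1 → t ≠ 1 →
      centralizer {t} ≤ normalizer ((P : Subgroup G) : Set G)) : False := by
  classical
  have h2 : Fact (Nat.Prime 2) := ⟨Nat.prime_two⟩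
  have h11 : Fact (Nat.Prime 11) := ⟨by norm_num⟩
  set N := normalizer ((P : Subgroup G) : Set G) with hNdef
  have hPN : (P : Subgroup G) ≤ N := le_normalizer
  have hKN : K ≤ N := hKC.trans (centralizer_le_normalizer _)
  -- the exponent of `P`
  have hP11 : ∀ x ∈ (P : Subgroup G), x ^ 11 = 1 := by
    intro x hx
    have h1 : Nat.card (P : Subgroup G) ∣ 11 := by
      obtain ⟨n, hn⟩ := (IsPGroup.iff_card).1 P.isPGroup'
      have h2 : Nat.card (P : Subgroup G) ∣ 11 * 2 * 8 := by
        rw [← hN]; exact Subgroup.card_dvd_of_le hPN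
      have hn1 : n ≤ 1 := by
        by_contra hcon
        push Not at hcon
        have h3 : 11 ^ 2 ∣ 11 * 2 * 8 := by
          rw [hn] at h2
          exact (pow_dvd_pow 11 hcon).trans h2
        norm_num at h3
      rw [hn]
      exact (pow_dvd_pow 11 hn1).trans (by norm_num)
    obtain ⟨m, hm⟩ := h1
    have h3 : x ^ Nat.card (P : Subgroup G) = 1 := by
      have := pow_card_eq_one' (x := (⟨x, hx⟩ : (P : Subgroup G)))
      exact congrArg Subtype.val this
    rw [hm, pow_mul, h3, one_pow]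
  -- a Sylow 2-subgroup of `N` over `K`
  have hK2 : IsPGroup 2 K := IsPGroup.of_card (n := 3) (by rw [hK]; norm_num)
  have hK2' : IsPGroup 2 (K.subgroupOf N) := hK2.comap_subtype
  obtain ⟨S₀, hKS₀⟩ := hK2'.exists_le_sylow
  have hS₀ : Nat.card S₀ = 16 := by
    have h1 : 2 ^ 4 ∣ Nat.card (S₀ : Subgroup N) :=
      S₀.pow_dvd_card_of_pow_dvd_card (by rw [hN]; norm_num)
    obtain ⟨n, hn⟩ := (IsPGroup.iff_card).1 S₀.isPGroup'
    have h3 : Nat.card (S₀ : Subgroup N) ∣ 11 * 2 * 8 := by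
      rw [← hN]; exact Subgroup.card_subgroup_dvd_card _
    have hn1 : n ≤ 4 := by
      by_contra hcon
      push Not at hcon
      have h4 : 2 ^ 5 ∣ 11 * 2 * 8 := by
        rw [hn] at h3
        exact (pow_dvd_pow 2 hcon).trans h3
      norm_num at h4
    rw [hn] at h1
    have h5 : 4 ≤ n := (Nat.pow_dvd_pow_iff_le_right (by norm_num)).1 h1
    have h6 : n = 4 := le_antisymm hn1 h5
    change Nat.card (S₀ : Subgroup N) = 16
    rw [hn, h6]; norm_num
  set S : Subgroup G := (S₀ : Subgroup N).map N.subtype with hSdef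
  have hS : Nat.card S = 16 := by
    rw [hSdef, Subgroup.card_map_of_injective N.subtype_injective]
    exact hS₀
  have hSN : S ≤ N := by
    rw [hSdef]; exact Subgroup.map_subtype_le _
  have hKS : K ≤ S := by
    intro k hk
    exact ⟨⟨k, hKN hk⟩, hKS₀ (Subgroup.mem_subgroupOf.2 hk), rfl⟩
  have hS2 : IsPGroup 2 S := S₀.isPGroup'.map _
  obtain ⟨T, hST⟩ := hS2.exists_le_sylow
  have hT : 2 ^ 7 ∣ Nat.card (T : Subgroup G) := T.pow_dvd_card_of_pow_dvd_card h128
  have hlt : S < T := by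
    refine lt_of_le_of_ne hST ?_
    intro heq
    rw [← heq, hS] at hT
    norm_num at hT
  have hgr := SylowMaxInter.lt_inf_normalizer T.isPGroup' hlt
  obtain ⟨g, hg, hgS⟩ := SetLike.exists_of_lt hgr
  obtain ⟨hgT, hgn⟩ := Subgroup.mem_inf.1 hg
  -- `g` is not in `N`
  have hgN : g ∉ N := by
    intro hgN
    have h1 : IsPGroup 2 ((T : Subgroup G).subgroupOf N) := T.isPGroup'.comap_subtype
    have h3 : (S₀ : Subgroup N) ≤ (T : Subgroup G).subgroupOf N := by
      intro x hx
      exact Subgroup.mem_subgroupOf.2 (hST ⟨x, hx, rfl⟩)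
    have h4 := S₀.is_maximal' h1 h3
    apply hgS
    refine ⟨⟨g, hgN⟩, ?_, rfl⟩
    change (⟨g, hgN⟩ : N) ∈ S₀.toSubgroup
    rw [← h4]
    exact Subgroup.mem_subgroupOf.2 hgT
  -- the conjugate of `K`
  set K' : Subgroup G := K.map (MulAut.conj g).toMonoidHom with hK'def
  have hK' : Nat.card K' = 8 := by
    rw [hK'def, Subgroup.card_map_of_injective (MulAut.conj g).injective, hK]
  have hK'S : K' ≤ S := by
    rintro _ ⟨k, hk, rfl⟩
    exact (mem_normalizer_iff.1 hgn k).1 (hKS hk)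
  have hrel : K.relIndex K' ≤ 2 := by
    refine (RelSylow.relIndex_mono_right K K' S hK'S).trans ?_
    have h1 := RelSylow.relIndex_mul_card_inf K S
    rw [inf_eq_right.2 hKS, hK, hS] at h1
    omega
  have hcap := RelSylow.relIndex_mul_card_inf K K'
  rw [hK'] at hcap
  have hcap2 : 2 ∣ Nat.card (K' ⊓ K : Subgroup G) := by
    generalize hc : Nat.card (K' ⊓ K : Subgroup G) = c at *
    generalize hr : K.relIndex K' = r at *
    interval_cases r <;> omega
  obtain ⟨⟨u, hu⟩, hou⟩ := exists_prime_orderOf_dvd_card' 2 hcap2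
  have hou' : orderOf u = 2 := by rwa [← Subgroup.orderOf_coe] at hou
  obtain ⟨huK', huK⟩ := Subgroup.mem_inf.1 hu
  have hu2 : u ^ 2 = 1 := by rw [← hou']; exact pow_orderOf_eq_one u
  have hu1 : u ≠ 1 := by
    rintro rfl
    rw [orderOf_one] at hou'
    norm_num at hou'
  have hcu := hinv u huK hu2 hu1
  obtain ⟨k, hk, hku⟩ := huK'
  have hku' : g * k * g⁻¹ = u := hku
  apply hgN
  apply mem_normalizer_of_conj_mem
  intro x hx
  have h1 : g * x * g⁻¹ ∈ centralizer {u} := by
    rw [mem_centralizer_singleton_iff, ← hku']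
    have h3 : x * k = k * x := mem_centralizer_iff.1 (hKC hk) x hx
    calc g * x * g⁻¹ * (g * k * g⁻¹) = g * (x * k) * g⁻¹ := by group
      _ = g * (k * x) * g⁻¹ := by rw [h3]
      _ = g * k * g⁻¹ * (g * x * g⁻¹) := by group
  have h3 : (g * x * g⁻¹) ^ 11 = 1 := by
    rw [conj_pow, hP11 x hx, mul_one, mul_inv_cancel]
  obtain ⟨n, hn, z, hz, hnz⟩ := RelSylow.exists_conj_of_pow_eq_one P N hPN (hcu h1) h3
  rw [hnz]
  exact (mem_normalizer_iff.1 hn z).1 hz

end Cfsg.Agent.M23.TwoGroup
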