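import Cfsg.Agent.M22.NonSelfCent
import Cfsg.Agent.Characters.DefectZero

/-!
# The principal block for a Sylow subgroup of prime order: full data

`Blk` extends `M22.NonSelfCent.KBlock` by the values at the `p`-singular elements.
-/

set_option autoImplicit false

namespace Cfsg.Agent.M23.Block

open Cfsg Cfsg.Agent.Characters.Core
open Cfsg.Agent.Blocks.Basic (irr_one_eq_charDegree)
open Cfsg.Agent.SmallSimple Cfsg.Agent.M22.NonSelfCent

universe u

variable {G : Type u} [Group G] [Finite G]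

/-- Full data of the principal `p`-block, `|P| = p`. -/
structure Blk (p : ℕ) (P : Sylow p G) (e t : ℕ) (M : Ideal AlgInt)
    (NE X : Finset (IrrCharacter G)) (ε : IrrCharacter G → ℤ) (d : ℤ)
    (S : IrrCharacter G → Finset (P →* ℂˣ)) : Prop where
  kb : KBlock p (P : Subgroup G) e t NE X ε d
  modular : IsPModular p M
  mem_iff : ∀ χ : IrrCharacter G, χ ∈ principalBlock M G ↔ χ ∈ NE ∨ χ ∈ X
  val_NE : ∀ χ ∈ NE, ∀ x ∈ P, x ≠ 1 → ∀ y ∈ Subgroup.centralizer (P : Set G), ¬ p ∣ orderOf y →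
    (χ : G → ℂ) (x * y) = ε χ
  val_X : ∀ Θ ∈ X, (S Θ).card = e ∧ 1 ∉ S Θ ∧ ∀ x : P, x ≠ 1 →
    ∀ y ∈ Subgroup.centralizer (P : Set G), ¬ p ∣ orderOf y →
    (Θ : G → ℂ) (x * y) = d * ∑ l ∈ S Θ, ((l x : ℂˣ) : ℂ)
  disj_S : ∀ Θ ∈ X, ∀ Θ' ∈ X, Θ ≠ Θ' → Disjoint (S Θ) (S Θ')

theorem exists_blk [IsSimpleGroup G] (hG : ¬ (Nat.card G).Prime) (p : ℕ) [Fact p.Prime]
    (hp2 : p ≠ 2) (P : Sylow p G) (hP : Nat.card P = p) (e t : ℕ)
    (he : (Subgroup.centralizer (P : Set G)).relIndex (Subgroup.normalizer (P : Set G)) = e)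
    (ht : e * t = p - 1) :
    ∃ M NE X ε d S, Blk p P e t M NE X ε d S := by
  have hp : p.Prime := Fact.out
  obtain ⟨M, hM⟩ := Cfsg.Agent.Blocks.ExistsModular.exists_isPModular hp
  obtain ⟨NE, X, ε, d, S, h1, h2, h3, h4, h5, h6, h7, h8, h9, h10, h11⟩ :=
    TheoremB.theoremB p hp2 M hM P hP e t he ht
  obtain ⟨χ₁, hχ₁, hχ₁', hε₁⟩ := h7
  have h12 : χ₁ = ⟨1, isIrr_one⟩ := Subtype.ext hχ₁'
  subst h12
  have he0 : e ≠ 0 := by
    rintro rfl
    have := hp.two_le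
    omega
  refine ⟨M, NE, X, ε, d, S, ⟨h2, h3, h4, h5, h6, hχ₁, hε₁, h11, fun Θ hΘ => ?_,
    fun K hK hcop hKne χ hχ hχ1 => ?_, fun K hK hcop hKne Θ hΘ => ?_⟩, hM, h1, h8, h9, h10⟩
  · have h13 := h11 Θ hΘ 1 (by
      rw [orderOf_one]; exact fun h => hp.one_lt.ne' (Nat.dvd_one.1 h))
    rw [irr_one_eq_charDegree Θ.2] at h13
    have h14 : ∑ χ ∈ NE, (ε χ : ℂ) * (χ : G → ℂ) 1 =
        ((∑ χ ∈ NE, ε χ * (charDegree (χ : G → ℂ) : ℤ) : ℤ) : ℂ) := by
      push_cast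
      refine Finset.sum_congr rfl fun χ _ => ?_
      rw [irr_one_eq_charDegree χ.2]
    rw [h14] at h13
    exact_mod_cast h13
  · exact neData hG P hP χ hχ1 (h5 χ hχ) (h8 χ hχ) K hK hcop hKne
  · obtain ⟨h15, h16, h17⟩ := h9 Θ hΘ
    refine xData hG P hP Θ ?_ h6 he0 (S Θ) h15 h16 h17 K hK hcop hKne
    rintro rfl
    exact (Finset.disjoint_left.1 h2) hχ₁ hΘ

variable {p : ℕ} [Fact p.Prime] {P : Sylow p G} {e t : ℕ} {M : Ideal AlgInt}
  {NE X : Finset (IrrCharacter G)} {ε : IrrCharacter G → ℤ} {d : ℤ}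
  {S : IrrCharacter G → Finset (P →* ℂˣ)}

/-- **T6.** If the centraliser of `P` contains an element of order `r` and `r ^ a` is the exact
power of `r` dividing `|G|`, then no degree in the principal block is divisible by `r ^ a`. -/
theorem Blk.not_dvd (B : Blk p P e t M NE X ε d S) (hP : Nat.card P = p) {r a : ℕ} (hr : r.Prime)
    (hrp : r ≠ p) (h1 : r ^ a ∣ Nat.card G) (h2 : ¬ r ^ (a + 1) ∣ Nat.card G) {k : G}
    (hk : k ∈ Subgroup.centralizer (P : Set G)) (hkr : orderOf k = r) {χ : IrrCharacter G}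
    (hχ : χ ∈ NE ∨ χ ∈ X) : ¬ r ^ a ∣ charDegree (χ : G → ℂ) := by
  intro hdvd
  have := Fintype.ofFinite G
  have hp : p.Prime := Fact.out
  have hx₀ : ∃ x ∈ (P : Subgroup G), x ≠ 1 := by
    have : Nontrivial (P : Subgroup G) := by
      rw [← Finite.one_lt_card_iff_nontrivial]
      exact hp.one_lt.trans_eq hP.symm
    obtain ⟨x, hx⟩ := exists_ne (1 : (P : Subgroup G))
    exact ⟨x, x.2, fun h => hx (Subtype.ext h)⟩
  obtain ⟨x, hx, hx1⟩ := hx₀
  have hB := (B.mem_iff χ).2 hχ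
  have hc : Commute x k := Subgroup.mem_centralizer_iff.1 hk x hx
  have hpk : ¬ p ∣ orderOf k := by
    rw [hkr]
    intro h
    exact hrp ((Nat.prime_dvd_prime_iff_eq hp hr).1 h).symm
  have h3 := Cfsg.Agent.Blocks.CyclicOrtho.mul_eq P hP B.modular hx hx1 hc hpk hB
  have h4 := TheoremB.apply_ne_zero B.modular P hP hB hx hx1
  rw [← h3] at h4
  apply h4
  obtain ⟨χ, hχirr⟩ := χ
  obtain ⟨n, ρ, hρ, rfl⟩ := hχirr
  have hdeg : r ^ a ∣ Module.finrank ℂ (Fin n → ℂ) := by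
    have h5 := irr_one_eq_charDegree (χ := ρ.character) ⟨n, ρ, hρ, rfl⟩
    rw [Representation.char_one] at h5
    have h6 : Module.finrank ℂ (Fin n → ℂ) = charDegree ρ.character := by exact_mod_cast h5
    rw [h6]
    exact hdvd
  have hord : r ∣ orderOf (x * k)⁻¹ := by
    have hxo := Cfsg.Agent.Blocks.CyclicOrtho.orderOf_eq P hP hx hx1
    rw [orderOf_inv, hc.orderOf_mul_eq_mul_orderOf_of_coprime, hkr]
    · exact dvd_mul_left _ _
    · rw [hxo, hkr]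
      exact (Nat.coprime_primes hp hr).2 (Ne.symm hrp)
  have h := Cfsg.Agent.Characters.DefectZero.character_inv_eq_zero ρ hρ r a hr h1 h2 hdeg (x * k)⁻¹ hord
  rwa [inv_inv] at h

end Cfsg.Agent.M23.Block
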