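import Cfsg.Agent.M23.ElevenTwo
import Cfsg.Agent.SmallSimple.AvgFormula
import Cfsg.Agent.M23.TwoGroup

/-!
# Sylow 11-subgroups in a simple group of order `10200960`: the end of `e = 2`
-/

set_option autoImplicit false
set_option linter.unusedSectionVars false

namespace Cfsg.Agent.M23.ElevenTwoFinal

open Cfsg Subgroup Cfsg.Agent.Characters.Core
open Cfsg.Agent.Blocks.Basic (irr_one_eq_charDegree)
open Cfsg.Agent.SmallSimple Cfsg.Agent.SmallSimple.PrimeLocal Cfsg.Agent.M22.NonSelfCent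
open Cfsg.Agent.M23.Block Cfsg.Agent.M23.Adm Cfsg.Agent.M23.ElevenCommon
open Cfsg.Agent.M23.ElevenTwo

universe u

variable {G : Type u} [Group G] [Finite G] [IsSimpleGroup G]

theorem compl_of_local {p e : ℕ} (hp : p.Prime) {P : Sylow p G} {K : Subgroup G}
    (h : IsLocal p P e K) : AvgFormula.Compl p (P : Subgroup G) K :=
  ⟨h.card_centralizer, (Nat.Prime.coprime_iff_not_dvd hp).2 h.not_dvd, h.mem_iff⟩

/-- The averaged class multiplication formula in the case `e = 2`. -/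
theorem avg_prop (hcard : Nat.card G = 10200960) {P : Sylow 11 G} {K : Subgroup G}
    (h : IsLocal 11 P 2 K) {M : Ideal AlgInt}
    {NE X : Finset (IrrCharacter G)} {ε : IrrCharacter G → ℤ} {d : ℤ}
    {S : IrrCharacter G → Finset (P →* ℂˣ)}
    (B : Blk 11 P 2 5 M NE X ε d S) {χ : IrrCharacter G}
    (hsum : ∀ f : IrrCharacter G → ℂ, ∑ ψ ∈ NE, f ψ = f ⟨1, isIrr_one⟩ + f χ)
    (hε : ε χ = 1) (hd : d = 1)
    (hX : ∀ Θ ∈ X, ∀ g : G, ¬ 11 ∣ orderOf g → (Θ : G → ℂ) g = 1 + (χ : G → ℂ) g) :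
    AvgProp K (χ : G → ℂ) := by
  intro t ht ht2 ht1
  have hp : Fact (Nat.Prime 11) := ⟨by norm_num⟩
  have hP := ElevenTen.card_eleven hcard P
  have hx₀ : ∃ x ∈ (P : Subgroup G), x ≠ 1 := by
    have : Nontrivial (P : Subgroup G) := by
      rw [← Finite.one_lt_card_iff_nontrivial]
      exact (by norm_num : 1 < 11).trans_eq hP.symm
    obtain ⟨x, hx⟩ := exists_ne (1 : (P : Subgroup G))
    exact ⟨x, x.2, fun h => hx (Subtype.ext h)⟩
  obtain ⟨x, hx, hx1⟩ := hx₀
  obtain ⟨Θ, hΘ⟩ : ∃ Θ, Θ ∈ X := by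
    apply Finset.card_pos.1
    rw [B.kb.card_X]; norm_num
  have h11 := (involution_facts hcard h ht ht2 ht1).1
  have h1 := AvgFormula.avg B (compl_of_local (by norm_num) h) hP hx hx1 hΘ h11 h11
  have hone : ¬ 11 ∣ orderOf (1 : G) := by rw [orderOf_one]; norm_num
  refine ⟨_, h1.trans ?_⟩
  rw [hsum (fun ψ => (ε ψ : ℂ) * ((ψ : G → ℂ) t * (ψ : G → ℂ) t / (ψ : G → ℂ) 1)), hX Θ hΘ t h11,
    hX Θ hΘ 1 hone, hε, hd, B.kb.eps_one]
  have h2 : ∀ g : G, ((⟨1, isIrr_one⟩ : IrrCharacter G) : G → ℂ) g = 1 := fun g => rfl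
  rw [h2, h2]
  push_cast
  ring

/-- The case `e = 2`, `|K| ∈ {360, 96, 30, 8}`. -/
theorem two_false (hcard : Nat.card G = 10200960) {P : Sylow 11 G} {K : Subgroup G}
    (h : IsLocal 11 P 2 K)
    (hk : Nat.card K = 360 ∨ Nat.card K = 96 ∨ Nat.card K = 30 ∨ Nat.card K = 8) : False := by
  classical
  have hp : Fact (Nat.Prime 11) := ⟨by norm_num⟩
  have hP := ElevenTen.card_eleven hcard P
  obtain ⟨M, NE, X, ε, d, S, χ, B, hχ, hsum, hχ1, hε, hd, hX, hXd, a, hinv, hdeg⟩ :=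
    exists_two hcard h (by omega)
  have hNE : ∀ ψ ∈ NE, ψ = ⟨1, isIrr_one⟩ ∨ ψ = χ := by
    have h1 : ({⟨1, isIrr_one⟩, χ} : Finset (IrrCharacter G)) ⊆ NE := by
      intro ψ hψ
      rcases Finset.mem_insert.1 hψ with rfl | hψ
      · exact B.kb.one_mem
      · rw [Finset.mem_singleton.1 hψ]; exact hχ
    have h2 : ({⟨1, isIrr_one⟩, χ} : Finset (IrrCharacter G)) = NE := by
      apply Finset.eq_of_subset_of_card_le h1
      rw [B.kb.card_NE, Finset.card_pair (Ne.symm hχ1)]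
    intro ψ hψ
    rw [← h2] at hψ
    simpa using hψ
  have havg := avg_prop hcard h B hsum hε hd hX
  rcases hdeg with ⟨hdeg, rfl⟩ | ⟨hdeg, rfl⟩
  · exact case23 hcard h hk B hsum hχ hχ1 hε hNE hX hXd hdeg hinv havg
  · by_cases h3 : 3 ∣ Nat.card K
    · have hp3 : Fact (Nat.Prime 3) := ⟨by norm_num⟩
      obtain ⟨⟨k, hk⟩, hok⟩ := exists_prime_orderOf_dvd_card' 3 h3
      have hok' : orderOf k = 3 := by rwa [← Subgroup.orderOf_coe] at hok
      refine B.not_dvd hP (r := 3) (a := 2) (by norm_num) (by norm_num) (by rw [hcard]; norm_num)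
        (by rw [hcard]; norm_num) (h.le_centralizer hk) hok' (Or.inl hχ) ?_
      rw [hdeg]; norm_num
    · have hk8 : Nat.card K = 8 := by
        rcases hk with hk | hk | hk | hk
        · rw [hk] at h3; norm_num at h3
        · rw [hk] at h3; norm_num at h3
        · rw [hk] at h3; norm_num at h3
        · exact hk
      exact TwoGroup.false_of_centralizer_le P K (by rw [hcard]; norm_num) hk8
        (h.card_normalizer.trans (by rw [hk8])) h.le_centralizer h.normalizer_le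
        (fun t ht ht2 ht1 => case45 hcard h hk8 B hsum hχ hχ1 hNE hX hdeg hinv havg ht
          (by rw [← pow_two]; exact ht2) ht1)

end Cfsg.Agent.M23.ElevenTwoFinal
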