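import Cfsg.Agent.M23.SylowTools
import Cfsg.Agent.SmallSimple.FixCount

/-!
# The Sylow `23`-subgroups of a simple group of order `10200960 = |M₂₃|`

`centralizer_eq : C_G(P) = P` and `card_normalizer : |N_G(P)| = 253` for every Sylow
`23`-subgroup `P` of a simple group `G` of order `10200960`.
-/

set_option autoImplicit false
set_option linter.unusedSectionVars false

namespace Cfsg.Agent.M23.Sylow23

open Cfsg Subgroup MulAction
open Cfsg.Agent.SmallSimple Cfsg.Agent.SmallSimple.PrimeLocal Cfsg.Agent.SmallSimple.LocalData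
open Cfsg.Agent.M23.SylowTools

universe u

theorem cand : candList 10200960 23 =
    [(231, 2, 960), (576, 2, 385), (576, 11, 70), (576, 22, 35), (990, 2, 224), (1680, 2, 132),
      (1680, 11, 24), (1680, 22, 12), (3520, 2, 63), (5544, 2, 40), (40320, 11, 1)] := by
  decide +kernel

variable {G : Type u} [Group G] [Finite G] [IsSimpleGroup G]

theorem not_comm (hcard : Nat.card G = 10200960) : ¬ IsMulCommutative G := by
  intro h
  let _ : CommGroup G := { (inferInstance : Group G) with mul_comm := h.is_comm.comm }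
  have h1 : (Nat.card G).Prime := IsSimpleGroup.prime_card
  rw [hcard] at h1
  revert h1
  norm_num

theorem perfect (hcard : Nat.card G = 10200960) : commutator G = ⊤ := by
  refine MTwelve.SmallDegree.commutator_eq_top_of_card ?_
  rw [hcard]
  norm_num

/-! ### Elements of order seven -/

theorem seven_arith' : ∀ j < 153, (1 + 23 * j) ∣ 10200960 →
    ((1 + 23 * j) % 7 = 576 % 7 → 576 ≤ 1 + 23 * j) ∧ ((1 + 23 * j) % 7 = 3520 % 7 → False) := by
  decide +kernel

theorem seven_arith {m : ℕ} (hm : m < 3520) (h1 : m ∣ 10200960) (h2 : m % 23 = 1) :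
    (m % 7 = 576 % 7 → 576 ≤ m) ∧ (m % 7 = 3520 % 7 → False) := by
  obtain ⟨j, rfl⟩ : ∃ j, m = 1 + 23 * j := ⟨m / 23, by omega⟩
  exact seven_arith' j (by omega) h1

theorem not_seven_dvd (hcard : Nat.card G = 10200960) {e : ℕ} {P : Sylow 23 G} {K : Subgroup G}
    [Fact (Nat.Prime 23)] (h : IsLocal 23 P e K) (hP : Nat.card P = 23)
    (hn : Nat.card (Sylow 23 G) = 576 ∨ Nat.card (Sylow 23 G) = 3520) : ¬ 7 ∣ Nat.card K := by
  intro h7
  have : Fact (Nat.Prime 7) := ⟨by norm_num⟩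
  obtain ⟨⟨x, hx⟩, hox⟩ := exists_prime_orderOf_dvd_card' 7 h7
  have hox' : orderOf x = 7 := by rwa [← Subgroup.orderOf_coe] at hox
  have hx7 : x ^ 7 = 1 := by rw [← hox']; exact pow_orderOf_eq_one x
  have hx1 : x ≠ 1 := by
    rintro rfl
    rw [orderOf_one] at hox'
    omega
  have hxC := h.le_centralizer hx
  have h1 := card_fixedBy_dvd (by norm_num : Nat.Prime 7) P hP hxC hx7 (by norm_num)
  have h2 := CentralizerFix.card_fixedBy_modEq_one P hxC
  have h3 := CentralizerFix.card_fixedBy_lt (p := 23) (by omega) hx1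
  have h4 := FixCount.card_fixedBy_modEq (X := Sylow 23 G) (q := 7) hx7
  rw [hcard] at h1
  have h5 : Nat.card (fixedBy (Sylow 23 G) x) % 23 = 1 := h2
  have h6 : Nat.card (fixedBy (Sylow 23 G) x) % 7 = Nat.card (Sylow 23 G) % 7 := h4.symm
  have h7 := seven_arith (by omega) h1 h5
  rcases hn with hn | hn
  · rw [hn] at h3 h6
    have := h7.1 h6
    omega
  · rw [hn] at h6
    exact h7.2 h6

/-! ### Even order -/

theorem odd_arith : ∀ f ∈ Nat.divisors 3465,
    f % 23 = 1 ∨ f % 23 = 22 ∨ f % 23 = 11 ∨ f % 23 = 12 → f < 46 ∨ f = 231 ∨ f = 495 := by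
  decide +kernel

theorem dvd_odd {f : ℕ} (hf : f ∣ 10200960) (hodd : ¬ 2 ∣ f) (h23 : ¬ 23 ∣ f) : f ∣ 3465 := by
  have h1 : Nat.Coprime f (2 ^ 7) :=
    (Nat.Coprime.pow_left 7 ((Nat.Prime.coprime_iff_not_dvd Nat.prime_two).2 hodd)).symm
  have h2 : Nat.Coprime f 23 :=
    ((Nat.Prime.coprime_iff_not_dvd (by norm_num)).2 h23).symm
  have h3 : f ∣ 2 ^ 7 * (23 * 3465) := by norm_num; exact hf
  exact h2.dvd_of_dvd_mul_left (h1.dvd_of_dvd_mul_left h3)

/-- No odd degree is possible. -/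
theorem odd_false {f : ℕ} {z h : ℤ} (hf : f ∣ 10200960) (hodd : ¬ 2 ∣ f)
    (hmod : f % 23 = 1 ∨ f % 23 = 22 ∨ f % 23 = 11 ∨ f % 23 = 12)
    (hz : |z| < f) (h92 : (92 : ℤ) ∣ f - z) (hh : (f : ℤ) ∣ h * z) (h11 : ¬ (11 : ℤ) ∣ h) :
    False := by
  have h1 := dvd_odd hf hodd (by omega)
  have h2 := odd_arith f (by simp [h1]) hmod
  rw [abs_lt] at hz
  rcases h2 with h2 | rfl | rfl
  · omega
  · have h3 : (11 : ℤ) ∣ z := by
      have h4 : (11 : ℤ) ∣ h * z := Dvd.dvd.trans (by norm_num) hh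
      exact (Int.Prime.dvd_mul' (by norm_num) h4).resolve_left h11
    push_cast at hz h92
    omega
  · have h3 : (11 : ℤ) ∣ z := by
      have h4 : (11 : ℤ) ∣ h * z := Dvd.dvd.trans (by norm_num) hh
      exact (Int.Prime.dvd_mul' (by norm_num) h4).resolve_left h11
    push_cast at hz h92
    omega

theorem prime_pow_mod {k : ℕ} (hk : k = 70 ∨ k = 24 ∨ k = 12) (r i : ℕ) (hr : r.Prime)
    (hi : 0 < i) (h : r ^ i ∣ k) : ¬ r ^ i ≡ 1 [MOD 11] := by
  have hr2 := hr.two_le
  have hk0 : 0 < k := by omega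
  have hle := Nat.le_of_dvd hk0 h
  have hi7 : i < 7 := by
    by_contra hcon
    have h1 : 2 ^ 7 ≤ r ^ i :=
      (Nat.pow_le_pow_left hr2 7).trans (Nat.pow_le_pow_right (by omega) (by omega))
    omega
  have hr70 : r ≤ 70 := (Nat.le_self_pow hi.ne' r).trans (hle.trans (by omega))
  have key : ∀ k ∈ [70, 24, 12], ∀ r < 71, r.Prime → ∀ i < 7, 0 < i → r ^ i ∣ k →
      r ^ i % 11 ≠ 1 := by decide +kernel
  have := key k (by simp; omega) r (by omega) hr i hi7 hi h
  exact this

/-- An involution of `K` commuting with an element of order `11`. -/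
theorem exists_involution (hcard : Nat.card G = 10200960) {e : ℕ} {P : Sylow 23 G}
    {K : Subgroup G} [Fact (Nat.Prime 23)] (h : IsLocal 23 P e K) (he : 11 ∣ e)
    (hk : Nat.card K = 70 ∨ Nat.card K = 24 ∨ Nat.card K = 12) :
    ∃ s ∈ K, s ^ 2 = 1 ∧ s ≠ 1 ∧ ¬ (11 : ℤ) ∣ ((centralizer ({s} : Set G)).index : ℤ) := by
  have : Fact (Nat.Prime 11) := ⟨by norm_num⟩
  have : Fact (Nat.Prime 2) := ⟨by norm_num⟩
  have h11 : 11 ∣ Nat.card (normalizer (P : Set G)) := by
    rw [h.card_normalizer]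
    exact (he.mul_left _).mul_right _
  obtain ⟨⟨f, hf⟩, hof⟩ := exists_prime_orderOf_dvd_card' 11 h11
  have hof' : orderOf f = 11 := by rwa [← Subgroup.orderOf_coe] at hof
  have hf11 : f ^ 11 = 1 := by rw [← hof']; exact pow_orderOf_eq_one f
  have hfK : f ∈ normalizer (K : Set G) := h.normalizer_le hf
  have hKN : K ≤ normalizer (K : Set G) := le_normalizer
  have hcardK : Nat.card (K.subgroupOf (normalizer (K : Set G))) = Nat.card K :=
    Nat.card_congr (subgroupOfEquivOfLe hKN).toEquiv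
  have hcomm : ∀ x ∈ K, f * x = x * f := by
    intro x hx
    have h1 := Cfsg.Agent.Lib.SimpleByPrime.commute_of_normal (p := 11) (by norm_num)
      (K.subgroupOf (normalizer (K : Set G))) (by rw [hcardK]; rcases hk with h | h | h <;>
        rw [h] <;> norm_num)
      (fun r i hr hi hd => prime_pow_mod hk r i hr hi (by rwa [hcardK] at hd))
      ⟨f, hfK⟩ (Subtype.ext hf11) ⟨x, hKN hx⟩ hx
    exact congrArg Subtype.val h1
  obtain ⟨⟨s, hs⟩, hos⟩ := exists_prime_orderOf_dvd_card' (G := K) 2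
    (by rcases hk with h | h | h <;> rw [h] <;> norm_num)
  have hos' : orderOf s = 2 := by rwa [← Subgroup.orderOf_coe] at hos
  refine ⟨s, hs, by rw [← hos']; exact pow_orderOf_eq_one s, ?_, ?_⟩
  · rintro rfl
    rw [orderOf_one] at hos'
    omega
  · intro hd
    have hd' : 11 ∣ (centralizer ({s} : Set G)).index := by exact_mod_cast hd
    have h2 : 11 ∣ Nat.card (centralizer ({s} : Set G)) := by
      rw [← hof']
      exact orderOf_dvd_natCard (⟨f, mem_centralizer_singleton_iff.2 (hcomm s hs)⟩ :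
        centralizer ({s} : Set G)) |> fun h => by rwa [Subgroup.orderOf_mk] at h
    have h3 := Nat.mul_dvd_mul h2 hd'
    rw [card_mul_index, hcard] at h3
    revert h3
    norm_num

/-- Integer form of the degree relation. -/
theorem degree_relation {NE : Finset (IrrCharacter G)} {ε : IrrCharacter G → ℤ} {d : ℤ}
    {Θ : IrrCharacter G}
    (h : ∑ χ ∈ NE, (ε χ : ℂ) * (χ : G → ℂ) 1 = d * (Θ : G → ℂ) 1) :
    ∑ χ ∈ NE, ε χ * (charDegree (χ : G → ℂ) : ℤ) = d * (charDegree (Θ : G → ℂ) : ℤ) := by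
  have h1 : ((∑ χ ∈ NE, ε χ * (charDegree (χ : G → ℂ) : ℤ) : ℤ) : ℂ) =
      ((d * (charDegree (Θ : G → ℂ) : ℤ) : ℤ) : ℂ) := by
    push_cast
    rw [← Blocks.Basic.irr_one_eq_charDegree Θ.2, ← h]
    refine Finset.sum_congr rfl fun χ _ => ?_
    rw [Blocks.Basic.irr_one_eq_charDegree χ.2]
  exact Int.cast_injective h1

theorem degree_sq_le (χ : IrrCharacter G) : charDegree (χ : G → ℂ) ^ 2 ≤ Nat.card G := by
  have h1 := InvolColumn.sum_sq_le {χ} 1 (fun χ => (charDegree (χ : G → ℂ) : ℤ))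
    (fun χ _ => by rw [Blocks.Basic.irr_one_eq_charDegree χ.2]; push_cast; rfl)
  rw [Finset.sum_singleton] at h1
  have h2 : Nat.card (centralizer ({1} : Set G)) ≤ Nat.card G := card_le_card_group _
  have h3 : ((charDegree (χ : G → ℂ) ^ 2 : ℕ) : ℤ) ≤ (Nat.card G : ℤ) := by
    push_cast
    exact h1.trans (by exact_mod_cast h2)
  exact_mod_cast h3

theorem two_arith : ∀ j < 139, 2 ≤ j → (1 + 23 * j ∣ 10200960 → ¬ 2 + 23 * j ∣ 10200960) ∧
    (22 + 23 * j ∣ 10200960 → ¬ 21 + 23 * j ∣ 10200960) := by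
  decide +kernel

/-- The case `e = 2`. -/
theorem two_false {a f : ℕ} {ε d za zf : ℤ} (ha : a ∣ 10200960) (hf : f ∣ 10200960)
    (ha2 : a ^ 2 ≤ 10200960) (hε : ε = 1 ∨ ε = -1) (hd : d = 1 ∨ d = -1)
    (hrel : 1 + ε * a = d * f) (hmod : (23 : ℤ) ∣ a - ε)
    (hza : |za| < a) (hza' : (92 : ℤ) ∣ a - za) (hzf : |zf| < f) (hzf' : (92 : ℤ) ∣ f - zf) :
    False := by
  rw [abs_lt] at hza hzf
  have ha46 : 46 < a := by omega
  have ha3 : a < 3194 := by
    by_contra hcon
    have : 3194 ^ 2 ≤ a ^ 2 := Nat.pow_le_pow_left (by omega) 2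
    omega
  rcases hε with rfl | rfl
  · have hf1 : f = a + 1 := by rcases hd with rfl | rfl <;> omega
    obtain ⟨j, rfl⟩ : ∃ j, a = 1 + 23 * j := ⟨a / 23, by omega⟩
    refine (two_arith j (by omega) (by omega)).1 ha ?_
    convert hf using 1
    omega
  · have hf1 : f = a - 1 := by rcases hd with rfl | rfl <;> omega
    obtain ⟨j, rfl⟩ : ∃ j, a = 22 + 23 * j := ⟨a / 23, by omega⟩
    refine (two_arith j (by omega) (by omega)).2 ha ?_
    convert hf using 1
    omega

theorem even_false (hcard : Nat.card G = 10200960) {e : ℕ} {P : Sylow 23 G}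
    {K : Subgroup G} [Fact (Nat.Prime 23)] (h : IsLocal 23 P e K) (hP : Nat.card P = 23)
    {s : G} (hs : s ∈ K) (hs2 : s ^ 2 = 1) (hs1 : s ≠ 1)
    (he : e = 2 ∨ (e = 11 ∨ e = 22) ∧ ¬ (11 : ℤ) ∣ ((centralizer ({s} : Set G)).index : ℤ)) :
    False := by
  classical
  have hle := SylowPrimeCount.centralizer_le_normalizer' (P : Subgroup G)
  have hrel : (centralizer (P : Set G)).relIndex (normalizer (P : Set G)) = e := by
    have h1 := relIndex_mul_relIndex (⊥ : Subgroup G) _ _ bot_le hle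
    rw [relIndex_bot_left, relIndex_bot_left] at h1
    have h2 := h.card_normalizer
    have h3 := h.card_centralizer
    change Nat.card (centralizer (P : Set G)) *
      (centralizer (P : Set G)).relIndex (normalizer (P : Set G)) =
      Nat.card (normalizer (P : Set G)) at h1
    rw [h2, h3] at h1
    have h4 : 0 < 23 * Nat.card K := Nat.mul_pos (by norm_num) Nat.card_pos
    apply Nat.eq_of_mul_eq_mul_left h4
    rw [h1]; ring
  have ht : e * (22 / e) = 23 - 1 := by
    rcases he with rfl | ⟨rfl | rfl, -⟩ <;> norm_num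
  obtain ⟨NE, X, ε, d, hdisj, hNE, hX, hε, hd, ⟨χ₁, hχ₁, hχ₁1, hε1⟩, hdegN, hdegX, hrelg, hinv⟩ :=
    blockData (perfect hcard) 23 (by norm_num) P hP e (22 / e) hrel ht
  have hXpos : 0 < X.card := by
    rw [hX]; rcases he with rfl | ⟨rfl | rfl, -⟩ <;> norm_num
  obtain ⟨Θ, hΘ⟩ := Finset.card_pos.1 hXpos
  have hsC := h.le_centralizer hs
  have hdvd : ∀ χ : IrrCharacter G, charDegree (χ : G → ℂ) ∣ 10200960 := fun χ => by
    rw [← hcard]; exact Blocks.CyclicUpper.charDegree_dvd χ.2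
  have hsq : ∀ χ : IrrCharacter G, charDegree (χ : G → ℂ) ^ 2 ≤ 10200960 := fun χ => by
    rw [← hcard]; exact degree_sq_le χ
  have hone : ¬ 23 ∣ orderOf (1 : G) := by rw [orderOf_one]; norm_num
  have hdeg := degree_relation (hrelg Θ hΘ 1 hone)
  have hχ₁deg : charDegree (χ₁ : G → ℂ) = 1 := by
    have h1 := Blocks.Basic.irr_one_eq_charDegree χ₁.2
    rw [hχ₁1] at h1
    rw [hχ₁1]
    have h2 : ((charDegree (1 : G → ℂ) : ℕ) : ℂ) = ((1 : ℕ) : ℂ) := by
      rw [← h1]; simp
    exact_mod_cast h2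
  rw [← Finset.add_sum_erase _ _ hχ₁, hε1, hχ₁deg] at hdeg
  have hne1 : ∀ χ ∈ NE.erase χ₁, (χ : G → ℂ) ≠ 1 := by
    intro χ hχ h1
    apply Finset.ne_of_mem_erase hχ
    exact Subtype.ext (h1.trans hχ₁1.symm)
  have hΘ1 : (Θ : G → ℂ) ≠ 1 := by
    intro h1
    have h2 : Θ = χ₁ := Subtype.ext (h1.trans hχ₁1.symm)
    exact Finset.disjoint_left.1 hdisj hχ₁ (h2 ▸ hΘ)
  obtain ⟨zΘ, -, hzΘ1, hzΘ2, hzΘ3⟩ := hinv Θ (Or.inr hΘ) hΘ1 s hsC hs2 hs1
  have h92 : (4 * (23 : ℕ) : ℤ) = 92 := by norm_num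
  rw [h92] at hzΘ2
  rcases he with rfl | ⟨he, h11⟩
  · obtain ⟨χ, hχ⟩ : ∃ χ, NE.erase χ₁ = {χ} := by
      apply Finset.card_eq_one.1
      rw [Finset.card_erase_of_mem hχ₁, hNE]
    have hχm : χ ∈ NE.erase χ₁ := by rw [hχ]; exact Finset.mem_singleton_self _
    have hχN := Finset.mem_of_mem_erase hχm
    rw [hχ, Finset.sum_singleton] at hdeg
    obtain ⟨z, -, hz1, hz2, -⟩ := hinv χ (Or.inl hχN) (hne1 χ hχm) s hsC hs2 hs1
    rw [h92] at hz2
    exact two_false (hdvd χ) (hdvd Θ) (hsq χ) (hε χ hχN) hd (by push_cast at hdeg; linarith)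
      (hdegN χ hχN) hz1 hz2 hzΘ1 hzΘ2
  · -- parity
    have hoddN : ∀ χ ∈ NE.erase χ₁, (2 : ℤ) ∣ charDegree (χ : G → ℂ) := by
      intro χ hχ
      have hχN := Finset.mem_of_mem_erase hχ
      by_contra hcon
      obtain ⟨z, -, hz1, hz2, hz3⟩ := hinv χ (Or.inl hχN) (hne1 χ hχ) s hsC hs2 hs1
      rw [h92] at hz2
      refine odd_false (hdvd χ) (by exact_mod_cast hcon) ?_ hz1 hz2 hz3 h11
      have := hdegN χ hχN
      rcases hε χ hχN with h1 | h1 <;> rw [h1] at this <;> push_cast at this <;> omega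
    have hoddX : (2 : ℤ) ∣ charDegree (Θ : G → ℂ) := by
      by_contra hcon
      refine odd_false (hdvd Θ) (by exact_mod_cast hcon) ?_ hzΘ1 hzΘ2 hzΘ3 h11
      have := hdegX Θ hΘ
      rcases he with rfl | rfl <;> rcases hd with rfl | rfl <;> push_cast at this <;> omega
    have h1 : (2 : ℤ) ∣ ∑ χ ∈ NE.erase χ₁, ε χ * (charDegree (χ : G → ℂ) : ℤ) :=
      Finset.dvd_sum fun χ hχ => (hoddN χ hχ).mul_left _
    have h2 : (2 : ℤ) ∣ d * (charDegree (Θ : G → ℂ) : ℤ) := hoddX.mul_left _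
    rw [← hdeg] at h2
    push_cast at h2
    omega

/-- The Sylow `23`-subgroups of a simple group of order `|M₂₃|`. -/
theorem data (hcard : Nat.card G = 10200960) : Data G 23 11 1 := by
  have hp : Fact (Nat.Prime 23) := ⟨by norm_num⟩
  obtain ⟨e, k, hD, hmem⟩ := exists_data (not_comm hcard) (p := 23) (by norm_num) (by norm_num)
    (by rw [hcard]; norm_num) (by rw [hcard]; norm_num)
  have hP := hD.card_eq default
  obtain ⟨K, hK, hk⟩ := hD.loc default
  have : Fact (Nat.Prime 2) := ⟨by norm_num⟩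
  have hinvol : 2 ∣ k → ∃ s ∈ K, s ^ 2 = 1 ∧ s ≠ 1 := by
    intro h2
    rw [← hk] at h2
    obtain ⟨⟨s, hs⟩, hos⟩ := exists_prime_orderOf_dvd_card' (G := K) 2 h2
    have hos' : orderOf s = 2 := by rwa [← Subgroup.orderOf_coe] at hos
    refine ⟨s, hs, by rw [← hos']; exact pow_orderOf_eq_one s, ?_⟩
    rintro rfl
    rw [orderOf_one] at hos'
    omega
  rw [hcard, cand] at hmem
  simp only [List.mem_cons, Prod.mk.injEq, List.not_mem_nil, or_false] at hmem
  have htwo : e = 2 → 2 ∣ k → False := by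
    intro he h2
    obtain ⟨s, hs, hs2, hs1⟩ := hinvol h2
    exact even_false hcard hK hP hs hs2 hs1 (Or.inl he)
  have heven : (e = 11 ∨ e = 22) → (k = 70 ∨ k = 24 ∨ k = 12) → False := by
    intro he h2
    obtain ⟨s, hs, hs2, hs1, hs11⟩ := exists_involution hcard hK
      (by rcases he with rfl | rfl <;> norm_num) (by rw [hk]; exact h2)
    exact even_false hcard hK hP hs hs2 hs1 (Or.inr ⟨he, hs11⟩)
  have hseven : (Nat.card (Sylow 23 G) = 576 ∨ Nat.card (Sylow 23 G) = 3520) → ¬ 7 ∣ k := by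
    intro hn
    rw [← hk]
    exact not_seven_dvd hcard hK hP hn
  rcases hmem with h | h | h | h | h | h | h | h | h | h | h
  · exact (htwo h.2.1 (by omega)).elim
  · exact (hseven (Or.inl h.1) (by omega)).elim
  · exact (hseven (Or.inl h.1) (by omega)).elim
  · exact (hseven (Or.inl h.1) (by omega)).elim
  · exact (htwo h.2.1 (by omega)).elim
  · exact (htwo h.2.1 (by omega)).elim
  · exact (heven (by omega) (by omega)).elim
  · exact (heven (by omega) (by omega)).elim
  · exact (hseven (Or.inr h.1) (by omega)).elim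
  · exact (htwo h.2.1 (by omega)).elim
  · obtain ⟨-, rfl, rfl⟩ := h
    exact hD

theorem card_normalizer (hcard : Nat.card G = 10200960) (P : Sylow 23 G) :
    Nat.card (normalizer (P : Set G)) = 253 :=
  (data hcard).card_normalizer P

theorem card_sylow (hcard : Nat.card G = 10200960) (P : Sylow 23 G) : Nat.card P = 23 :=
  (data hcard).card_eq P

theorem centralizer_eq (hcard : Nat.card G = 10200960) (P : Sylow 23 G) :
    centralizer (P : Set G) = (P : Subgroup G) := by
  have h1 := (data hcard).card_centralizer P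
  have h2 : (P : Subgroup G) ≤ centralizer (P : Set G) := by
    intro x hx
    rw [mem_centralizer_iff]
    intro y hy
    exact comm_of_card_prime (by norm_num) (P : Subgroup G) (card_sylow hcard P) y hy x hx
  refine (Subgroup.eq_of_le_of_card_ge h2 ?_).symm
  rw [h1]
  exact (card_sylow hcard P).symm.le

theorem relIndex_eq (hcard : Nat.card G = 10200960) (P : Sylow 23 G) :
    (centralizer (P : Set G)).relIndex (normalizer (P : Set G)) = 11 := by
  have hle := SylowPrimeCount.centralizer_le_normalizer' (P : Subgroup G)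
  have h1 := relIndex_mul_relIndex (⊥ : Subgroup G) _ _ bot_le hle
  rw [relIndex_bot_left, relIndex_bot_left] at h1
  change Nat.card (centralizer (P : Set G)) *
      (centralizer (P : Set G)).relIndex (normalizer (P : Set G)) =
      Nat.card (normalizer (P : Set G)) at h1
  rw [card_normalizer hcard P, (data hcard).card_centralizer P] at h1
  omega

end Cfsg.Agent.M23.Sylow23
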