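import Cfsg.Agent.M23.Adm

/-!
# Sylow 11-subgroups in a simple group of order `10200960`: common tools
-/

set_option autoImplicit false
set_option linter.unusedSectionVars false

namespace Cfsg.Agent.M23.ElevenCommon

open Cfsg Subgroup Cfsg.Agent.Characters.Core
open Cfsg.Agent.Blocks.Basic (irr_one_eq_charDegree)
open Cfsg.Agent.SmallSimple Cfsg.Agent.SmallSimple.PrimeLocal Cfsg.Agent.M22.NonSelfCent
open Cfsg.Agent.M23.Block Cfsg.Agent.M23.Adm

universe u

variable {G : Type u} [Group G] [Finite G]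

theorem relIndex_eq {p e : ℕ} {P : Sylow p G} {K : Subgroup G} (hp : 0 < p)
    (h : IsLocal p P e K) :
    (centralizer (P : Set G)).relIndex (normalizer (P : Set G)) = e := by
  have hle := SylowPrimeCount.centralizer_le_normalizer' (P : Subgroup G)
  have h1 := relIndex_mul_relIndex (⊥ : Subgroup G) _ _ bot_le hle
  rw [relIndex_bot_left, relIndex_bot_left] at h1
  have h2 := h.card_normalizer
  have h3 := h.card_centralizer
  change Nat.card (centralizer (P : Set G)) *
    (centralizer (P : Set G)).relIndex (normalizer (P : Set G)) =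
    Nat.card (normalizer (P : Set G)) at h1
  rw [h2, h3] at h1
  have h4 : 0 < p * Nat.card K := Nat.mul_pos hp Nat.card_pos
  apply Nat.eq_of_mul_eq_mul_left h4
  rw [h1]; ring

variable [IsSimpleGroup G]

theorem not_prime (hcard : Nat.card G = 10200960) : ¬ (Nat.card G).Prime := by
  rw [hcard]; norm_num

theorem exists_blk_of_local (hcard : Nat.card G = 10200960) {p e t : ℕ} [Fact p.Prime]
    (hp2 : p ≠ 2) {P : Sylow p G} (hP : Nat.card P = p) {K : Subgroup G} (h : IsLocal p P e K)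
    (ht : e * t = p - 1) :
    ∃ M NE X ε d S, Blk p P e t M NE X ε d S :=
  exists_blk (not_prime hcard) p hp2 P hP e t (relIndex_eq (Nat.Prime.pos Fact.out) h) ht

theorem charDegree_dvd (hcard : Nat.card G = 10200960) (χ : IrrCharacter G) :
    charDegree (χ : G → ℂ) ∣ 10200960 := by
  rw [← hcard]; exact Blocks.CyclicUpper.charDegree_dvd χ.2

theorem charDegree_lt (hcard : Nat.card G = 10200960) (χ : IrrCharacter G) :
    charDegree (χ : G → ℂ) < 3195 := by
  have h := Sylow23.degree_sq_le χ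
  rw [hcard] at h
  by_contra hcon
  have : 3195 ^ 2 ≤ charDegree (χ : G → ℂ) ^ 2 := Nat.pow_le_pow_left (by omega) 2
  omega

/-- The centraliser of a nontrivial `23'`-element is a `23'`-group. -/
theorem not_dvd_centralizer (hcard : Nat.card G = 10200960) {g : G} (hg : g ≠ 1)
    (h23 : ¬ 23 ∣ orderOf g) : ¬ 23 ∣ Nat.card (centralizer ({g} : Set G)) := by
  intro hdvd
  have hp : Fact (Nat.Prime 23) := ⟨by norm_num⟩
  obtain ⟨⟨x, hx⟩, hox⟩ := exists_prime_orderOf_dvd_card' 23 hdvd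
  have hox' : orderOf x = 23 := by rwa [← Subgroup.orderOf_coe] at hox
  obtain ⟨P, hP⟩ := IsPGroup.exists_le_sylow (IsPGroup.of_card (n := 1)
    (by rw [Nat.card_zpowers, hox', pow_one]) : IsPGroup 23 (zpowers x))
  have hPx : (P : Subgroup G) = zpowers x := by
    refine (Subgroup.eq_of_le_of_card_ge hP ?_).symm
    rw [Nat.card_zpowers, hox']
    exact (Sylow23.card_sylow hcard P).le
  have hgP : g ∈ (P : Subgroup G) := by
    rw [← Sylow23.centralizer_eq hcard P, mem_centralizer_iff]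
    intro y hy
    have hy' : y ∈ zpowers x := by rw [← hPx]; exact hy
    obtain ⟨i, rfl⟩ := mem_zpowers_iff.1 hy'
    exact (Commute.zpow_left (mem_centralizer_singleton_iff.1 hx : Commute x g) i)
  have h1 : orderOf g ∣ 23 := by
    have := orderOf_dvd_natCard (⟨g, hgP⟩ : (P : Subgroup G))
    rw [Subgroup.orderOf_mk] at this
    have h2 : Nat.card (P : Subgroup G) = 23 := Sylow23.card_sylow hcard P
    rwa [h2] at this
  rcases (Nat.dvd_prime (by norm_num)).1 h1 with h | h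
  · exact hg (orderOf_eq_one_iff.1 h)
  · exact h23 h.symm.dvd

/-- `23` does not divide the order of the complement of `P₁₁` in its centraliser. -/
theorem not_dvd_card_K (hcard : Nat.card G = 10200960) {e : ℕ} {P : Sylow 11 G} {K : Subgroup G}
    (h : IsLocal 11 P e K) : ¬ 23 ∣ Nat.card K := by
  intro hdvd
  have hp : Fact (Nat.Prime 11) := ⟨by norm_num⟩
  have hp' : Fact (Nat.Prime 23) := ⟨by norm_num⟩
  have hP : Nat.card (P : Subgroup G) = 11 := card_of_not_sq_dvd
    (by rw [hcard]; norm_num) (by rw [hcard]; norm_num) P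
  obtain ⟨⟨y, hy⟩, hoy⟩ := exists_prime_orderOf_dvd_card' 11 (dvd_of_eq hP.symm)
  have hoy' : orderOf y = 11 := by rwa [← Subgroup.orderOf_coe] at hoy
  have hy1 : y ≠ 1 := by rintro rfl; rw [orderOf_one] at hoy'; omega
  refine not_dvd_centralizer hcard hy1 (by rw [hoy']; norm_num) ?_
  refine hdvd.trans (Subgroup.card_dvd_of_le fun k hk => ?_)
  rw [mem_centralizer_singleton_iff]
  exact h.comm k hk y hy

theorem K_ne_bot {K : Subgroup G} (h : Nat.card K ≠ 1) : K ≠ ⊥ := by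
  rintro rfl
  exact h (by simp)

/-- All facts about the degree of a nontrivial nonexceptional character of the principal
11-block. -/
theorem ne_facts (hcard : Nat.card G = 10200960) (P23 : Sylow 23 G) {e t : ℕ} {P : Sylow 11 G}
    {K : Subgroup G} (h : IsLocal 11 P e K) (hK1 : Nat.card K ≠ 1) {M : Ideal AlgInt}
    {NE X : Finset (IrrCharacter G)} {ε : IrrCharacter G → ℤ} {d : ℤ}
    {S : IrrCharacter G → Finset (P →* ℂˣ)} (B : Blk 11 P e t M NE X ε d S)
    {χ : IrrCharacter G} (hχ : χ ∈ NE) (hχ1 : χ ≠ ⟨1, isIrr_one⟩) :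
    ∃ (s : ℤ) (a : ℕ), V (P23 : Subgroup G) (χ : G → ℂ) = s ∧
      AdmAt (charDegree (χ : G → ℂ)) s ∧ charDegree (χ : G → ℂ) ∣ 10200960 ∧
      charDegree (χ : G → ℂ) < 3195 ∧ 2 ≤ a ∧
      ((ε χ = 1 ∧ charDegree (χ : G → ℂ) = 11 * a + 1) ∨
        (ε χ = -1 ∧ charDegree (χ : G → ℂ) + 1 = 11 * (a + 1))) ∧
      InvVal 11 (χ : G → ℂ) a K := by
  obtain ⟨s, hs1, hs2⟩ := adm hcard P23 χ
  have hcop : Nat.Coprime 11 (Nat.card K) :=
    (Nat.Prime.coprime_iff_not_dvd (by norm_num)).2 h.not_dvd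
  obtain ⟨a, ha, hdeg, hinv⟩ := B.kb.ne_data K h.le_centralizer hcop (K_ne_bot hK1) χ hχ hχ1
  exact ⟨s, a, hs1, hs2, charDegree_dvd hcard χ, charDegree_lt hcard χ, ha, hdeg, hinv⟩

/-- All facts about the degree of an exceptional character of the principal 11-block. -/
theorem x_facts (hcard : Nat.card G = 10200960) (P23 : Sylow 23 G) {e t : ℕ} {P : Sylow 11 G}
    {K : Subgroup G} (h : IsLocal 11 P e K) (hK1 : Nat.card K ≠ 1) {M : Ideal AlgInt}
    {NE X : Finset (IrrCharacter G)} {ε : IrrCharacter G → ℤ} {d : ℤ}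
    {S : IrrCharacter G → Finset (P →* ℂˣ)} (B : Blk 11 P e t M NE X ε d S)
    {Θ : IrrCharacter G} (hΘ : Θ ∈ X) :
    ∃ (s : ℤ) (a : ℕ), V (P23 : Subgroup G) (Θ : G → ℂ) = s ∧
      AdmAt (charDegree (Θ : G → ℂ)) s ∧ charDegree (Θ : G → ℂ) ∣ 10200960 ∧
      charDegree (Θ : G → ℂ) < 3195 ∧ 2 ≤ a ∧
      ((d = 1 ∧ charDegree (Θ : G → ℂ) = 11 * a + e) ∨
        (d = -1 ∧ charDegree (Θ : G → ℂ) + e = 11 * (a + 1))) ∧
      InvVal 11 (Θ : G → ℂ) a K := by
  obtain ⟨s, hs1, hs2⟩ := adm hcard P23 Θ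
  have hcop : Nat.Coprime 11 (Nat.card K) :=
    (Nat.Prime.coprime_iff_not_dvd (by norm_num)).2 h.not_dvd
  obtain ⟨a, ha, hdeg, hinv⟩ := B.kb.x_data K h.le_centralizer hcop (K_ne_bot hK1) Θ hΘ
  exact ⟨s, a, hs1, hs2, charDegree_dvd hcard Θ, charDegree_lt hcard Θ, ha, hdeg, hinv⟩

/-- The relation of the principal 11-block summed over the nontrivial elements of `P₂₃`. -/
theorem sum_V_eq (hcard : Nat.card G = 10200960) (P23 : Sylow 23 G) {e t : ℕ} {P : Sylow 11 G}
    {M : Ideal AlgInt} {NE X : Finset (IrrCharacter G)} {ε : IrrCharacter G → ℤ} {d : ℤ}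
    {S : IrrCharacter G → Finset (P →* ℂˣ)} (B : Blk 11 P e t M NE X ε d S)
    {Θ : IrrCharacter G} (hΘ : Θ ∈ X) {v : IrrCharacter G → ℤ}
    (hv : ∀ χ : IrrCharacter G, V (P23 : Subgroup G) (χ : G → ℂ) = v χ) :
    ∑ χ ∈ NE, ε χ * v χ = d * v Θ := by
  have hP : Nat.card (P23 : Subgroup G) = 23 := Sylow23.card_sylow hcard P23
  have h1 := sum_V NE (fun χ => (ε χ : ℂ)) (fun χ : IrrCharacter G => (χ : G → ℂ))
    (P23 : Subgroup G) (g := (Θ : G → ℂ)) (d := (d : ℂ)) (fun x hx hx1 => by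
      apply B.kb.rel Θ hΘ x
      have h2 : orderOf x ∣ 23 := by
        have := orderOf_dvd_natCard (⟨x, hx⟩ : (P23 : Subgroup G))
        rw [Subgroup.orderOf_mk, hP] at this
        exact this
      intro h3
      have := h3.trans h2
      revert this
      norm_num)
  rw [hv, Finset.sum_congr rfl fun χ _ => by rw [hv]] at h1
  exact_mod_cast h1

theorem v_one (hcard : Nat.card G = 10200960) (P23 : Sylow 23 G) :
    V (P23 : Subgroup G) ((⟨1, isIrr_one⟩ : IrrCharacter G) : G → ℂ) = (22 : ℤ) := by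
  have hP : Nat.card (P23 : Subgroup G) = 23 := Sylow23.card_sylow hcard P23
  have h := V_const (χ := ((⟨1, isIrr_one⟩ : IrrCharacter G) : G → ℂ)) (P23 : Subgroup G)
    (c := 1) (fun x _ _ => rfl)
  rw [h, hP]
  norm_num

end Cfsg.Agent.M23.ElevenCommon
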