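import Cfsg.Agent.M23.ElevenTen
import Cfsg.Agent.SmallSimple.RelSylow

/-!
# Sylow 11-subgroups in a simple group of order `10200960`: `e = 2`
-/

set_option autoImplicit false
set_option linter.unusedSectionVars false

namespace Cfsg.Agent.M23.ElevenTwo

open Cfsg Subgroup Cfsg.Agent.Characters.Core
open Cfsg.Agent.Blocks.Basic (irr_one_eq_charDegree)
open Cfsg.Agent.SmallSimple Cfsg.Agent.SmallSimple.PrimeLocal Cfsg.Agent.M22.NonSelfCent
open Cfsg.Agent.M23.Block Cfsg.Agent.M23.Adm Cfsg.Agent.M23.ElevenCommon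

universe u

/-! ### Arithmetic -/

theorem arith_plus : ∀ n ∈ List.range 3195, 23 ≤ n → 10200960 % n = 0 → n % 11 = 1 →
    n % 23 ∈ [0, 1, 22, 11, 12] → 10200960 % (n + 1) = 0 →
    (n + 1) % 23 ∈ [0, 1, 22, 11, 12] → n = 23 ∨ n = 45 := by
  decide +kernel

theorem arith_minus : ∀ n ∈ List.range 3195, 23 ≤ n → 10200960 % n = 0 → n % 11 = 10 →
    n % 23 ∈ [0, 1, 22, 11, 12] → 10200960 % (n - 1) = 0 →
    (n - 1) % 23 ∈ [0, 1, 22, 11, 12] → n = 0 := by
  decide +kernel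

/-- The degrees in the case `e = 2`. -/
theorem degrees {D D' a a' : ℕ} {ε d : ℤ} (hD : D < 3195) (hDd : D ∣ 10200960)
    (hD' : D' ∣ 10200960) (ha : 2 ≤ a) (ha' : 2 ≤ a')
    (h1 : (ε = 1 ∧ D = 11 * a + 1) ∨ (ε = -1 ∧ D + 1 = 11 * (a + 1)))
    (h2 : (d = 1 ∧ D' = 11 * a' + 2) ∨ (d = -1 ∧ D' + 2 = 11 * (a' + 1)))
    (hrel : 1 + ε * D = d * D') {s s' : ℤ} (hs : AdmAt D s) (hs' : AdmAt D' s') :
    ε = 1 ∧ d = 1 ∧ D' = D + 1 ∧ ((D = 23 ∧ a = 2 ∧ a' = 2) ∨ (D = 45 ∧ a = 4 ∧ a' = 4)) := by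
  unfold AdmAt at hs hs'
  rcases h1 with ⟨rfl, h1⟩ | ⟨rfl, h1⟩
  · have hd : d = 1 := by
      rcases h2 with ⟨h, -⟩ | ⟨h, -⟩
      · exact h
      · rw [h] at hrel; omega
    subst hd
    have hD1 : D' = D + 1 := by omega
    subst hD1
    have := arith_plus D (List.mem_range.2 hD) (by omega) (Nat.mod_eq_zero_of_dvd hDd) (by omega)
      (by simp; omega) (Nat.mod_eq_zero_of_dvd hD') (by simp; omega)
    omega
  · exfalso
    have hD1 : D' = D - 1 := by
      rcases h2 with ⟨h, h2⟩ | ⟨h, h2⟩ <;> rw [h] at hrel <;> omega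
    subst hD1
    have := arith_minus D (List.mem_range.2 hD) (by omega) (Nat.mod_eq_zero_of_dvd hDd) (by omega)
      (by simp; omega) (Nat.mod_eq_zero_of_dvd hD') (by simp; omega)
    omega

/-! ### Involutions of `SL₂(ℂ)` -/

theorem eq_neg_one_of_sq {A : Matrix.SpecialLinearGroup (Fin 2) ℂ} (h : A * A = 1)
    (ht : A.1.trace = -2) : A.1 = -1 := by
  have h1 : A.1 * A.1 = 1 := by
    have := congrArg Subtype.val h
    simpa using this
  have e00 := congrFun (congrFun h1 0) 0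
  have e01 := congrFun (congrFun h1 0) 1
  have e10 := congrFun (congrFun h1 1) 0
  have e11 := congrFun (congrFun h1 1) 1
  simp only [Matrix.mul_apply, Fin.sum_univ_two, Matrix.one_apply] at e00 e01 e10 e11
  norm_num at e00 e01 e10 e11
  rw [Matrix.trace_fin_two] at ht
  set a := A.1 0 0
  set b := A.1 0 1
  set c := A.1 1 0
  set d := A.1 1 1
  have hb : b = 0 := by
    have : b * (a + d) = 0 := by linear_combination e01
    rw [ht] at this
    linear_combination (-1 / 2 : ℂ) * this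
  have hc : c = 0 := by
    have : c * (a + d) = 0 := by linear_combination e10
    rw [ht] at this
    linear_combination (-1 / 2 : ℂ) * this
  have ha : a * a = 1 := by rw [hb] at e00; linear_combination e00
  have hd : d * d = 1 := by rw [hb] at e11; linear_combination e11
  have ha' : a = -1 := by
    have : (a + 1) * 4 = 0 := by linear_combination hd - ha + (a + 2 - d) * ht
    linear_combination (1 / 4 : ℂ) * this
  have hd' : d = -1 := by linear_combination ht - ha'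
  ext i j
  fin_cases i <;> fin_cases j
  · simpa using ha'
  · simpa using hb
  · simpa using hc
  · simpa using hd'

/-! ### The characters -/

variable {G : Type u} [Group G] [Finite G] [IsSimpleGroup G]

/-- The principal 11-block in the case `e = 2`. -/
theorem exists_two (hcard : Nat.card G = 10200960) {P : Sylow 11 G} {K : Subgroup G}
    (h : IsLocal 11 P 2 K) (hK1 : Nat.card K ≠ 1) :
    ∃ (M : Ideal AlgInt) (NE X : Finset (IrrCharacter G)) (ε : IrrCharacter G → ℤ) (d : ℤ)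
      (S : IrrCharacter G → Finset (P →* ℂˣ)) (χ : IrrCharacter G),
      Blk 11 P 2 5 M NE X ε d S ∧ χ ∈ NE ∧
      (∀ f : IrrCharacter G → ℂ, ∑ ψ ∈ NE, f ψ = f ⟨1, isIrr_one⟩ + f χ) ∧
      χ ≠ ⟨1, isIrr_one⟩ ∧ ε χ = 1 ∧
      d = 1 ∧ (∀ Θ ∈ X, ∀ g : G, ¬ 11 ∣ orderOf g → (Θ : G → ℂ) g = 1 + (χ : G → ℂ) g) ∧
      (∀ Θ ∈ X, charDegree (Θ : G → ℂ) = charDegree (χ : G → ℂ) + 1) ∧
      ∃ a : ℕ, InvVal 11 (χ : G → ℂ) a K ∧
        ((charDegree (χ : G → ℂ) = 23 ∧ a = 2) ∨ (charDegree (χ : G → ℂ) = 45 ∧ a = 4)) := by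
  classical
  have hp : Fact (Nat.Prime 11) := ⟨by norm_num⟩
  have hP := ElevenTen.card_eleven hcard P
  obtain ⟨M, NE, X, ε, d, S, B⟩ := exists_blk_of_local hcard (by norm_num) hP h
    (t := 5) (by norm_num)
  let P23 : Sylow 23 G := default
  obtain ⟨χ, hχ⟩ : ∃ χ, NE.erase ⟨1, isIrr_one⟩ = {χ} := by
    apply Finset.card_eq_one.1
    rw [Finset.card_erase_of_mem B.kb.one_mem, B.kb.card_NE]
  have hχm : χ ∈ NE.erase ⟨1, isIrr_one⟩ := by rw [hχ]; exact Finset.mem_singleton_self _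
  have hχN := Finset.mem_of_mem_erase hχm
  have hχ1 := Finset.ne_of_mem_erase hχm
  have hNE : NE = {⟨1, isIrr_one⟩, χ} := by
    rw [← hχ, Finset.insert_erase B.kb.one_mem]
  have hsum : ∀ f : IrrCharacter G → ℂ, ∑ ψ ∈ NE, f ψ = f ⟨1, isIrr_one⟩ + f χ := by
    intro f
    rw [hNE, Finset.sum_insert (by rw [Finset.mem_singleton]; exact Ne.symm hχ1),
      Finset.sum_singleton]
  have hdeg1 : charDegree ((⟨1, isIrr_one⟩ : IrrCharacter G) : G → ℂ) = 1 := by
    have h1 := irr_one_eq_charDegree (⟨1, isIrr_one⟩ : IrrCharacter G).2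
    have h2 : ((charDegree ((⟨1, isIrr_one⟩ : IrrCharacter G) : G → ℂ) : ℕ) : ℂ) =
        ((1 : ℕ) : ℂ) := by
      rw [← h1]; simp
    exact_mod_cast h2
  obtain ⟨s, a, -, hs2, hs3, hs4, hs5, hs6, hs7⟩ := ne_facts hcard P23 h hK1 B hχN hχ1
  have hall : ∀ Θ ∈ X, ε χ = 1 ∧ d = 1 ∧
      charDegree (Θ : G → ℂ) = charDegree (χ : G → ℂ) + 1 ∧
      ((charDegree (χ : G → ℂ) = 23 ∧ a = 2) ∨ (charDegree (χ : G → ℂ) = 45 ∧ a = 4)) := by
    intro Θ hΘ
    obtain ⟨s', a', -, hs2', hs3', hs4', hs5', hs6', hs7'⟩ := x_facts hcard P23 h hK1 B hΘ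
    have hrel := B.kb.rel_one Θ hΘ
    rw [← Finset.add_sum_erase _ _ B.kb.one_mem, hχ, Finset.sum_singleton, B.kb.eps_one, hdeg1]
      at hrel
    obtain ⟨h1, h2, h3, h4⟩ := degrees hs4 hs3 hs3' hs5 hs5' hs6 hs6'
      (by push_cast at hrel; linarith) hs2 hs2'
    refine ⟨h1, h2, h3, ?_⟩
    rcases h4 with h4 | h4
    · exact Or.inl ⟨h4.1, h4.2.1⟩
    · exact Or.inr ⟨h4.1, h4.2.1⟩
  obtain ⟨Θ₀, hΘ₀⟩ : ∃ Θ, Θ ∈ X := by
    apply Finset.card_pos.1
    rw [B.kb.card_X]; norm_num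
  obtain ⟨hε, hd, -, hdeg⟩ := hall Θ₀ hΘ₀
  refine ⟨M, NE, X, ε, d, S, χ, B, hχN, hsum, hχ1, hε, hd, ?_, fun Θ hΘ => (hall Θ hΘ).2.2.1, a, hs7,
    hdeg⟩
  intro Θ hΘ g hg
  have h1 := B.kb.rel Θ hΘ g hg
  rw [hsum, B.kb.eps_one, hε, hd] at h1
  have h2 : ((⟨1, isIrr_one⟩ : IrrCharacter G) : G → ℂ) g = 1 := rfl
  rw [h2] at h1
  push_cast at h1
  linear_combination -h1

/-- Local facts on the centraliser of an involution of `K`. -/
theorem involution_facts (hcard : Nat.card G = 10200960) {e : ℕ} {P : Sylow 11 G}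
    {K : Subgroup G} (h : IsLocal 11 P e K) {t : G} (ht : t ∈ K) (ht2 : t * t = 1) (ht1 : t ≠ 1) :
    ¬ 11 ∣ orderOf t ∧ ¬ 23 ∣ Nat.card (centralizer ({t} : Set G)) ∧
    Nat.card (centralizer ({t} : Set G)) * (centralizer ({t} : Set G)).index = 10200960 ∧
    ∃ n ν : ℕ, n = (normalizer (P : Set G)).relIndex (centralizer ({t} : Set G)) ∧
      ν = Nat.card (centralizer ({t} : Set G) ⊓ normalizer (P : Set G) : Subgroup G) ∧
      n * ν = Nat.card (centralizer ({t} : Set G)) ∧ n % 11 = 1 ∧ 11 ∣ ν := by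
  have hp : Fact (Nat.Prime 11) := ⟨by norm_num⟩
  have hP : Nat.card (P : Subgroup G) = 11 := ElevenTen.card_eleven hcard P
  have ho : orderOf t = 2 := by
    have : Fact (Nat.Prime 2) := ⟨by norm_num⟩
    exact orderOf_eq_prime (by rw [pow_two]; exact ht2) ht1
  have hPle : (P : Subgroup G) ≤ centralizer ({t} : Set G) := by
    intro x hx
    rw [mem_centralizer_singleton_iff]
    exact (h.comm t ht x hx).symm
  refine ⟨by rw [ho]; norm_num, not_dvd_centralizer hcard ht1 (by rw [ho]; norm_num), by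
    rw [card_mul_index, hcard], _, _, rfl, rfl, RelSylow.relIndex_mul_card_inf _ _, ?_, ?_⟩
  · exact RelSylow.relIndex_modEq_one P _ hPle
  · have := Subgroup.card_dvd_of_le (le_inf hPle (le_normalizer (H := (P : Subgroup G))))
    rwa [hP] at this

/-- The norm of the column of `t`. -/
theorem norm_bound {P : Sylow 11 G} {M : Ideal AlgInt} {NE X : Finset (IrrCharacter G)}
    {ε : IrrCharacter G → ℤ} {d : ℤ} {S : IrrCharacter G → Finset (P →* ℂˣ)}
    (B : Blk 11 P 2 5 M NE X ε d S) {χ : IrrCharacter G}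
    (hsum : ∀ f : IrrCharacter G → ℂ, ∑ ψ ∈ NE, f ψ = f ⟨1, isIrr_one⟩ + f χ)
    (hχ : χ ∈ NE) (hχ1 : χ ≠ ⟨1, isIrr_one⟩)
    (hNE : ∀ ψ ∈ NE, ψ = ⟨1, isIrr_one⟩ ∨ ψ = χ)
    (hX : ∀ Θ ∈ X, ∀ g : G, ¬ 11 ∣ orderOf g → (Θ : G → ℂ) g = 1 + (χ : G → ℂ) g)
    {t : G} (ht : ¬ 11 ∣ orderOf t) {z : ℤ} (hz : (χ : G → ℂ) t = z) :
    1 + z ^ 2 + 5 * (1 + z) ^ 2 ≤ (Nat.card (centralizer ({t} : Set G)) : ℤ) := by
  classical
  let w : IrrCharacter G → ℤ := fun ψ =>
    if ψ ∈ X then 1 + z else if ψ = χ then z else 1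
  have h1 := InvolColumn.sum_sq_le (NE ∪ X) t w (by
    intro ψ hψ
    by_cases hψX : ψ ∈ X
    · simp only [w, if_pos hψX]
      rw [hX ψ hψX t ht, hz]; push_cast; ring
    · have hψN : ψ ∈ NE := by
        rcases Finset.mem_union.1 hψ with h | h
        · exact h
        · exact absurd h hψX
      rcases hNE ψ hψN with rfl | rfl
      · simp only [w, if_neg hψX, if_neg (Ne.symm hχ1)]
        simp
      · simp only [w, if_neg hψX, if_true]
        exact hz)
  rw [Finset.sum_union B.kb.disj] at h1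
  have h2 : ∑ ψ ∈ X, w ψ ^ 2 = 5 * (1 + z) ^ 2 := by
    rw [Finset.sum_congr rfl (g := fun _ => (1 + z) ^ 2) (fun ψ hψ => by simp only [w, if_pos hψ]),
      Finset.sum_const, B.kb.card_X]
    simp
  have h3 : ∑ ψ ∈ NE, w ψ ^ 2 = 1 + z ^ 2 := by
    have h4 := hsum fun ψ => ((w ψ : ℂ)) ^ 2
    have h5 : (⟨1, isIrr_one⟩ : IrrCharacter G) ∉ X :=
      Finset.disjoint_left.1 B.kb.disj B.kb.one_mem
    have h6 : χ ∉ X := Finset.disjoint_left.1 B.kb.disj hχ
    have h7 : w ⟨1, isIrr_one⟩ = 1 := by simp only [w, if_neg h5, if_neg (Ne.symm hχ1)]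
    have h8 : w χ = z := by simp only [w, if_neg h6, if_true]
    simp only [h7, h8] at h4
    have h9 : ((∑ ψ ∈ NE, w ψ ^ 2 : ℤ) : ℂ) = ((1 + z ^ 2 : ℤ) : ℂ) := by
      push_cast
      rw [h4]; norm_num
    exact_mod_cast h9
  rw [h2, h3] at h1
  exact h1

/-- The output of the averaged class multiplication formula. -/
def AvgProp (K : Subgroup G) (χ : G → ℂ) : Prop :=
  ∀ t ∈ K, t * t = 1 → t ≠ 1 → ∃ N : ℕ, (N : ℂ) * Nat.card G =
    ((centralizer ({t} : Set G)).index : ℂ) ^ 2 * Nat.card K *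
      (1 + χ t ^ 2 / χ 1 - (1 + χ t) ^ 2 / (1 + χ 1))

/-! ### Degree 45 -/

theorem arith45 : ∀ j ∈ List.range 129, 76324864 % (77 * j * (77 * j)) = 0 → j = 0 := by
  decide +kernel

theorem arith45'' : ∀ n ∈ List.range 129, 128 % n = 0 → n % 11 = 1 → n = 1 := by
  decide +kernel

theorem case45 (hcard : Nat.card G = 10200960) {P : Sylow 11 G} {K : Subgroup G}
    (h : IsLocal 11 P 2 K) (hk : Nat.card K = 8) {M : Ideal AlgInt}
    {NE X : Finset (IrrCharacter G)} {ε : IrrCharacter G → ℤ} {d : ℤ}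
    {S : IrrCharacter G → Finset (P →* ℂˣ)}
    (B : Blk 11 P 2 5 M NE X ε d S) {χ : IrrCharacter G}
    (hsum : ∀ f : IrrCharacter G → ℂ, ∑ ψ ∈ NE, f ψ = f ⟨1, isIrr_one⟩ + f χ)
    (hχ : χ ∈ NE) (hχ1 : χ ≠ ⟨1, isIrr_one⟩)
    (hNE : ∀ ψ ∈ NE, ψ = ⟨1, isIrr_one⟩ ∨ ψ = χ)
    (hX : ∀ Θ ∈ X, ∀ g : G, ¬ 11 ∣ orderOf g → (Θ : G → ℂ) g = 1 + (χ : G → ℂ) g)
    (hdeg : charDegree (χ : G → ℂ) = 45) (hinv : InvVal 11 (χ : G → ℂ) 4 K)
    (havg : AvgProp K (χ : G → ℂ)) {t : G} (ht : t ∈ K) (ht2 : t * t = 1) (ht1 : t ≠ 1) :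
    centralizer ({t} : Set G) ≤ normalizer (P : Set G) := by
  obtain ⟨h11, h23, hci, n, ν, hn, hν, hnν, hn1, hν1⟩ := involution_facts hcard h ht ht2 ht1
  obtain ⟨m, hm0, hm4, hm⟩ := hinv t ht ht2 ht1
  set c := Nat.card (centralizer ({t} : Set G)) with hc
  set i := (centralizer ({t} : Set G)).index with hi
  rw [hdeg] at hm
  have hnorm := norm_bound B hsum hχ hχ1 hNE hX h11 hm
  have hω := InvolColumn.dvd_index_mul χ.2 hm
  rw [hdeg] at hω
  -- 45 divides the index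
  have h45 : 45 ∣ i := by
    have h1 : (45 : ℤ) ∣ (i : ℤ) * (45 - 4 * 11 * m) := by exact_mod_cast hω
    have h2 : m = 1 ∨ m = 2 := by omega
    rcases h2 with rfl | rfl
    · norm_num at h1
      omega
    · norm_num at h1
      omega
  have h23i : 23 ∣ i := by
    have h1 : 23 ∣ c * i := by rw [hci]; norm_num
    exact ((Nat.Prime.dvd_mul (by norm_num)).1 h1).resolve_left h23
  have hi1035 : 1035 ∣ i := by
    have : Nat.Coprime 45 23 := by norm_num
    exact this.mul_dvd_of_dvd_of_dvd h45 h23i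
  obtain ⟨j, hj⟩ := hi1035
  have hcj : c * j = 9856 := by
    have : c * (1035 * j) = 1035 * 9856 := by rw [← hj, hci]
    have h2 : 1035 * (c * j) = 1035 * 9856 := by rw [← this]; ring
    exact Nat.eq_of_mul_eq_mul_left (by norm_num) h2
  have hc9856 : c ∣ 9856 := ⟨j, hcj.symm⟩
  have hcle : c ≤ 9856 := Nat.le_of_dvd (by norm_num) hc9856
  have hm1 : m = 1 := by
    by_contra hne
    have h2 : m = 2 := by omega
    subst h2
    norm_num at hnorm
    omega
  subst hm1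
  norm_num at hm
  -- the averaged formula
  obtain ⟨N, hN⟩ := havg t ht ht2 ht1
  rw [hm, irr_one_eq_charDegree χ.2, hdeg, hk, hcard, ← hi] at hN
  have hN2 : (N * (c * c) : ℂ) = 76324864 := by
    have e1 : (c : ℂ) * i = 10200960 := by exact_mod_cast hci
    have e2 : (N : ℂ) * (c * c) * 10200960 * 1035 = 76324864 * 10200960 * 1035 := by
      have : (N : ℂ) * (c * c) * 10200960 = (c * c) * (N * 10200960) := by ring
      rw [this]
      have h3 : (N : ℂ) * 10200960 = (i : ℂ) ^ 2 * 8 * (968 / 1035) := by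
        have := hN
        push_cast at this
        rw [this]; norm_num
      rw [h3]
      have h4 : (c : ℂ) * c * (i ^ 2 * 8 * (968 / 1035)) * 1035 = (c * i) ^ 2 * 8 * 968 := by
        ring
      rw [h4, e1]; norm_num
    have h5 : ((10200960 : ℂ) * 1035) ≠ 0 := by norm_num
    apply mul_right_cancel₀ h5
    linear_combination e2
  have hN3 : N * (c * c) = 76324864 := by exact_mod_cast hN2
  have hc11 : c % 11 = 0 := by
    rw [← hnν]
    exact Nat.mod_eq_zero_of_dvd (hν1.mul_left n)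
  have hc7 : ¬ c % 7 = 0 := by
    intro h7
    obtain ⟨l, hl⟩ : ∃ l, c = 77 * l := ⟨c / 77, by omega⟩
    have h0 := arith45 l (List.mem_range.2 (by omega)) (by
      rw [← hl]; exact Nat.mod_eq_zero_of_dvd ⟨N, by rw [← hN3]; ring⟩)
    rw [hl, h0] at hcj
    omega
  have hc3 : c ∣ 128 * 11 := by
    have h1 : Nat.Coprime c 7 := ((Nat.Prime.coprime_iff_not_dvd (by norm_num)).2
      (fun h => hc7 (Nat.mod_eq_zero_of_dvd h))).symm
    exact h1.dvd_of_dvd_mul_left (show c ∣ 7 * (128 * 11) by norm_num; exact hc9856)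
  obtain ⟨ν', rfl⟩ := hν1
  have hn128 : n ∣ 128 := by
    have h1 : n * (11 * ν') ∣ 128 * 11 := by rw [hnν]; exact hc3
    have h2 : 11 * (n * ν') ∣ 11 * 128 := by
      convert h1 using 1
      ring
    have h3 := Nat.dvd_of_mul_dvd_mul_left (by norm_num) h2
    exact (dvd_mul_right n ν').trans h3
  have hn1' : n = 1 := arith45'' n (List.mem_range.2
    (Nat.lt_succ_of_le (Nat.le_of_dvd (by norm_num) hn128))) (Nat.mod_eq_zero_of_dvd hn128) hn1
  rw [hn1'] at hn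
  exact Subgroup.relIndex_eq_one.1 hn.symm

/-! ### Degree 23 -/

/-- In degree 23 the involution of `K` is unique, hence central in `N(P)`. -/
theorem normalizer_le (hcard : Nat.card G = 10200960) {P : Sylow 11 G} {K : Subgroup G}
    (h : IsLocal 11 P 2 K) {M : Ideal AlgInt}
    {NE X : Finset (IrrCharacter G)} {ε : IrrCharacter G → ℤ} {d : ℤ}
    {S : IrrCharacter G → Finset (P →* ℂˣ)}
    (B : Blk 11 P 2 5 M NE X ε d S) {χ : IrrCharacter G}
    (hχ : χ ∈ NE) (hχ1 : χ ≠ ⟨1, isIrr_one⟩) (hε : ε χ = 1)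
    (hdeg : charDegree (χ : G → ℂ) = 23) (hinv : InvVal 11 (χ : G → ℂ) 2 K)
    {t : G} (ht : t ∈ K) (ht2 : t * t = 1) (ht1 : t ≠ 1) :
    normalizer (P : Set G) ≤ centralizer ({t} : Set G) := by
  have hp : Fact (Nat.Prime 11) := ⟨by norm_num⟩
  have hcop : Nat.Coprime 11 (Nat.card K) :=
    (Nat.Prime.coprime_iff_not_dvd (by norm_num)).2 h.not_dvd
  obtain ⟨σ, hσ, hσt⟩ := DetKernel.exists_hom_SL_of_const
    (not_comm_of_not_prime (not_prime hcard)) P (ElevenTen.card_eleven hcard P)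
    (isIrr_isCharacter χ.2) (Cfsg.Agent.M22.NonSelfCent.exists_ne χ hχ1) (δ := 1)
    (fun x hx hx1 y hy hyp => by rw [B.val_NE χ hχ x hx hx1 y hy hyp, hε]) (a := 2)
    (Or.inl ⟨Or.inr rfl, by rw [irr_one_eq_charDegree χ.2, hdeg]; norm_num⟩) K h.le_centralizer
    hcop
  have key : ∀ s : K, (s : G) * s = 1 → (s : G) ≠ 1 → (σ s).1 = -1 := by
    intro s hs2 hs1
    apply eq_neg_one_of_sq
    · rw [← map_mul]
      have : s * s = 1 := Subtype.ext hs2
      rw [this, map_one]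
    · obtain ⟨m, hm0, hm2, hm⟩ := hinv s s.2 hs2 hs1
      have hm1 : m = 1 := by omega
      subst hm1
      have h1 := hσt s
      rw [hm, irr_one_eq_charDegree χ.2, hdeg] at h1
      push_cast at h1
      linear_combination (1 / 11 : ℂ) * h1
  intro g hg
  have htK : g * t * g⁻¹ ∈ K := by
    have := (mem_normalizer_iff.1 (h.normalizer_le hg) t).1 ht
    exact this
  have h1 := key ⟨t, ht⟩ ht2 ht1
  have h2 := key ⟨g * t * g⁻¹, htK⟩ (by
    calc g * t * g⁻¹ * (g * t * g⁻¹) = g * (t * t) * g⁻¹ := by group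
      _ = 1 := by rw [ht2]; group) (fun h' => ht1 (by
    have h5 : g * t * g⁻¹ = 1 := h'
    have : t = g⁻¹ * (g * t * g⁻¹) * g := by group
    rw [this, h5]; group))
  have h3 : (⟨g * t * g⁻¹, htK⟩ : K) = ⟨t, ht⟩ := hσ (Subtype.ext (h2.trans h1.symm))
  have h4 : g * t * g⁻¹ = t := congrArg Subtype.val h3
  rw [mem_centralizer_singleton_iff]
  calc g * t = g * t * g⁻¹ * g := by group
    _ = t * g := by rw [h4]

theorem arith23 : ∀ n ∈ List.range 421, n % 11 = 1 → (35 % n = 0 → n = 1) ∧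
    (112 % n = 0 → n = 1 ∨ n = 56) ∧ (420 % n = 0 → n = 1 ∨ n = 12 ∨ n = 210) := by
  decide +kernel

theorem case23 (hcard : Nat.card G = 10200960) {P : Sylow 11 G} {K : Subgroup G}
    (h : IsLocal 11 P 2 K)
    (hk : Nat.card K = 360 ∨ Nat.card K = 96 ∨ Nat.card K = 30 ∨ Nat.card K = 8)
    {M : Ideal AlgInt}
    {NE X : Finset (IrrCharacter G)} {ε : IrrCharacter G → ℤ} {d : ℤ}
    {S : IrrCharacter G → Finset (P →* ℂˣ)}
    (B : Blk 11 P 2 5 M NE X ε d S) {χ : IrrCharacter G}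
    (hsum : ∀ f : IrrCharacter G → ℂ, ∑ ψ ∈ NE, f ψ = f ⟨1, isIrr_one⟩ + f χ)
    (hχ : χ ∈ NE) (hχ1 : χ ≠ ⟨1, isIrr_one⟩) (hε : ε χ = 1)
    (hNE : ∀ ψ ∈ NE, ψ = ⟨1, isIrr_one⟩ ∨ ψ = χ)
    (hX : ∀ Θ ∈ X, ∀ g : G, ¬ 11 ∣ orderOf g → (Θ : G → ℂ) g = 1 + (χ : G → ℂ) g)
    (hXd : ∀ Θ ∈ X, charDegree (Θ : G → ℂ) = charDegree (χ : G → ℂ) + 1)
    (hdeg : charDegree (χ : G → ℂ) = 23) (hinv : InvVal 11 (χ : G → ℂ) 2 K)
    (havg : AvgProp K (χ : G → ℂ)) : False := by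
  have : Fact (Nat.Prime 2) := ⟨by norm_num⟩
  obtain ⟨⟨t, ht⟩, hot⟩ := exists_prime_orderOf_dvd_card' (G := K) 2
    (by rcases hk with h | h | h | h <;> rw [h] <;> norm_num)
  have hot' : orderOf t = 2 := by rwa [← Subgroup.orderOf_coe] at hot
  have ht2 : t * t = 1 := by rw [← pow_two, ← hot']; exact pow_orderOf_eq_one t
  have ht1 : t ≠ 1 := by rintro rfl; rw [orderOf_one] at hot'; omega
  obtain ⟨h11, h23, hci, n, ν, hn, hν, hnν, hn1, hν1⟩ := involution_facts hcard h ht ht2 ht1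
  have hNC := normalizer_le hcard h B hχ hχ1 hε hdeg hinv ht ht2 ht1
  obtain ⟨m, hm0, hm2, hm⟩ := hinv t ht ht2 ht1
  have hm1 : m = 1 := by omega
  subst hm1
  set c := Nat.card (centralizer ({t} : Set G)) with hc
  set i := (centralizer ({t} : Set G)).index with hi
  rw [hdeg] at hm
  norm_num at hm
  have hνe : ν = 22 * Nat.card K := by
    rw [hν, inf_eq_right.2 hNC, h.card_normalizer]
  have hnorm := norm_bound B hsum hχ hχ1 hNE hX h11 (z := -21) (by rw [hm]; norm_num)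
  rw [← hc] at hnorm
  norm_num at hnorm
  obtain ⟨Θ, hΘ⟩ : ∃ Θ, Θ ∈ X := by
    apply Finset.card_pos.1
    rw [B.kb.card_X]; norm_num
  have hω := InvolColumn.dvd_index_mul Θ.2 (g := t) (z := -20) (by
    rw [hX Θ hΘ t h11, hm]; norm_num)
  rw [hXd Θ hΘ, hdeg, ← hi] at hω
  have h6 : 6 ∣ i := by
    have h1 : (24 : ℤ) ∣ (i : ℤ) * (-20) := by exact_mod_cast hω
    omega
  have h23i : 23 ∣ i := by
    have h1 : 23 ∣ c * i := by rw [hci]; norm_num
    exact ((Nat.Prime.dvd_mul (by norm_num)).1 h1).resolve_left h23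
  obtain ⟨j, hj⟩ : 138 ∣ i := (by norm_num : Nat.Coprime 6 23).mul_dvd_of_dvd_of_dvd h6 h23i
  have hcj : c * j = 73920 := by
    have : c * (138 * j) = 138 * 73920 := by rw [← hj, hci]
    have h2 : 138 * (c * j) = 138 * 73920 := by rw [← this]; ring
    exact Nat.eq_of_mul_eq_mul_left (by norm_num) h2
  have hnj : Nat.card K * (n * j) = 3360 := by
    have h1 : 22 * (Nat.card K * (n * j)) = 22 * 3360 := by
      calc 22 * (Nat.card K * (n * j)) = n * (22 * Nat.card K) * j := by ring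
        _ = 22 * 3360 := by rw [← hνe, hnν, hcj]
    exact Nat.eq_of_mul_eq_mul_left (by norm_num) h1
  -- the averaged formula
  have hN : ∃ N : ℕ, N * 10200960 * 69 = i ^ 2 * Nat.card K * 242 := by
    obtain ⟨N, hN⟩ := havg t ht ht2 ht1
    refine ⟨N, ?_⟩
    rw [hm, irr_one_eq_charDegree χ.2, hdeg, hcard, ← hi] at hN
    have h1 : (N : ℂ) * 10200960 * 69 = (i : ℂ) ^ 2 * Nat.card K * 242 := by
      push_cast at hN
      rw [hN]; norm_num
      ring
    exact_mod_cast h1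
  have hcn : c = n * (22 * Nat.card K) := by rw [← hνe, hnν]
  have hj0 : n ∣ n * j := dvd_mul_right _ _
  obtain ⟨N, hN⟩ := hN
  rcases hk with hk | hk | hk | hk <;> rw [hk] at hnj hcn hN
  · omega
  · have h1 : n * j = 35 := by omega
    rw [h1] at hj0
    have hn35 := Nat.le_of_dvd (by norm_num) hj0
    have h2 := (arith23 n (List.mem_range.2 (by omega)) hn1).1 (Nat.mod_eq_zero_of_dvd hj0)
    rw [h2] at hcn
    omega
  · have h1 : n * j = 112 := by omega
    have hj1 := hj0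
    rw [h1] at hj1
    have hn35 := Nat.le_of_dvd (by norm_num) hj1
    have h2 := (arith23 n (List.mem_range.2 (by omega)) hn1).2.1 (Nat.mod_eq_zero_of_dvd hj1)
    rcases h2 with h2 | h2 <;> rw [h2] at hcn h1
    · omega
    · have hj2 : j = 2 := by omega
      rw [hj, hj2] at hN
      omega
  · have h1 : n * j = 420 := by omega
    have hj1 := hj0
    rw [h1] at hj1
    have hn35 := Nat.le_of_dvd (by norm_num) hj1
    have h2 := (arith23 n (List.mem_range.2 (by omega)) hn1).2.2 (Nat.mod_eq_zero_of_dvd hj1)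
    rcases h2 with h2 | h2 | h2 <;> rw [h2] at hcn h1
    · omega
    · omega
    · have hj2 : j = 2 := by omega
      rw [hj, hj2] at hN
      omega

end Cfsg.Agent.M23.ElevenTwo
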