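import Cfsg.Agent.M23.ElevenTwoFinal
import Cfsg.Agent.M23.ElevenFive
import Cfsg.Agent.M23.ElevenSeven

/-!
# The Sylow `11`-subgroups of a simple group of order `10200960 = |M₂₃|`

`centralizer_eq : C_G(P) = P` and `card_normalizer : |N_G(P)| = 55`.
-/

set_option autoImplicit false
set_option linter.unusedSectionVars false

namespace Cfsg.Agent.M23.SylowEleven

open Cfsg Subgroup
open Cfsg.Agent.SmallSimple Cfsg.Agent.SmallSimple.PrimeLocal Cfsg.Agent.SmallSimple.LocalData

universe u

theorem cand : candList 10200960 11 =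
    [(276, 2, 1680), (276, 5, 672), (276, 10, 336), (320, 2, 1449), (672, 2, 690), (672, 5, 276),
      (672, 10, 138), (1035, 2, 448), (1288, 2, 360), (1288, 5, 144), (1288, 10, 72),
      (2520, 2, 184), (3312, 2, 140), (3312, 5, 56), (3312, 10, 28), (4830, 2, 96), (7360, 2, 63),
      (8064, 5, 23), (15456, 2, 30), (15456, 5, 12), (15456, 10, 6), (57960, 2, 8),
      (185472, 5, 1)] := by
  decide +kernel

variable {G : Type u} [Group G] [Finite G] [IsSimpleGroup G]

/-- The Sylow `11`-subgroups of a simple group of order `|M₂₃|`. -/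
theorem data (hcard : Nat.card G = 10200960) : Data G 11 5 1 := by
  have hp : Fact (Nat.Prime 11) := ⟨by norm_num⟩
  obtain ⟨e, k, hD, hmem⟩ := exists_data (Sylow23.not_comm hcard) (p := 11) (by norm_num)
    (by norm_num) (by rw [hcard]; norm_num) (by rw [hcard]; norm_num)
  obtain ⟨K, hK, hk⟩ := hD.loc default
  have h23 : ¬ 23 ∣ k := hk ▸ ElevenCommon.not_dvd_card_K hcard hK
  have h7 : ¬ 7 ∣ k := hk ▸ ElevenSeven.not_seven_dvd hcard hK
  have h10 : e = 10 → ¬ 3 ∣ k := by
    rintro rfl h3
    exact ElevenTen.ten_false hcard hK (hk ▸ h3)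
  have h5 : e = 5 → ¬ (k = 144 ∨ k = 12) := by
    rintro rfl h3
    exact ElevenFive.five_false hcard hK (hk ▸ h3)
  have h2 : e = 2 → ¬ (k = 360 ∨ k = 96 ∨ k = 30 ∨ k = 8) := by
    rintro rfl h3
    exact ElevenTwoFinal.two_false hcard hK (hk ▸ h3)
  rw [hcard, cand] at hmem
  simp only [List.mem_cons, Prod.mk.injEq, List.not_mem_nil, or_false] at hmem
  have hek : e = 5 ∧ k = 1 := by omega
  obtain ⟨rfl, rfl⟩ := hek
  exact hD

theorem card_normalizer (hcard : Nat.card G = 10200960) (P : Sylow 11 G) :
    Nat.card (normalizer (P : Set G)) = 55 :=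
  (data hcard).card_normalizer P

theorem card_sylow (hcard : Nat.card G = 10200960) (P : Sylow 11 G) : Nat.card P = 11 :=
  (data hcard).card_eq P

theorem centralizer_eq (hcard : Nat.card G = 10200960) (P : Sylow 11 G) :
    centralizer (P : Set G) = (P : Subgroup G) := by
  have h1 := (data hcard).card_centralizer P
  have h2 : (P : Subgroup G) ≤ centralizer (P : Set G) := by
    intro x hx
    rw [mem_centralizer_iff]
    intro y hy
    exact comm_of_card_prime (by norm_num) (P : Subgroup G) (card_sylow hcard P) y hy x hx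
  refine (Subgroup.eq_of_le_of_card_ge h2 ?_).symm
  rw [h1]
  exact (card_sylow hcard P).ge

theorem relIndex_eq (hcard : Nat.card G = 10200960) (P : Sylow 11 G) :
    (centralizer (P : Set G)).relIndex (normalizer (P : Set G)) = 5 := by
  have hle := SylowPrimeCount.centralizer_le_normalizer' (P : Subgroup G)
  have h1 := relIndex_mul_relIndex (⊥ : Subgroup G) _ _ bot_le hle
  rw [relIndex_bot_left, relIndex_bot_left] at h1
  change Nat.card (centralizer (P : Set G)) *
      (centralizer (P : Set G)).relIndex (normalizer (P : Set G)) =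
      Nat.card (normalizer (P : Set G)) at h1
  rw [card_normalizer hcard P, (data hcard).card_centralizer P] at h1
  omega

end Cfsg.Agent.M23.SylowEleven
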